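import Mathlib
import Cfsg.Agent.Helper9.T11.Enum

set_option autoImplicit false

/-!
The enumeration of the cycles of `q - 2` of `q` points that fix `0` and `1` and map `2` to `3`, with
the search for a cycle of a small prime number of points in the group they generate with the rotation.
-/

namespace Cfsg.Agent.Helper9.AltGen

open Cfsg.Agent.Helper9.T11

theorem clenAux_complete (h x : ℕ) : ∀ fuel y s r : ℕ, 1 ≤ r → r ≤ fuel → (img h)^[r] y = x →
    (∀ k, 1 ≤ k → k < r → (img h)^[k] y ≠ x) → clenAux h x fuel y s = s + r := by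
  intro fuel
  induction fuel with
  | zero => intro y s r h1 h2; omega
  | succ fuel ih =>
    intro y s r h1 h2 h3 h4
    rw [clenAux_succ]
    rcases Nat.eq_or_lt_of_le h1 with h1 | h1
    · subst h1
      have e : img h y = x := h3
      rw [e, Nat.beq_refl, cond_true]
    · have hne : img h y ≠ x := h4 1 (le_refl 1) h1
      have hb : Nat.beq (img h y) x = false := by
        rw [Bool.eq_false_iff]
        intro hb
        exact hne (Nat.eq_of_beq_eq_true hb)
      rw [hb, cond_false]
      obtain ⟨r', rfl⟩ : ∃ r', r = r' + 1 := ⟨r - 1, by omega⟩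
      rw [ih (img h y) (s + 1) r' (by omega) (by omega)]
      · ring
      · rw [← Function.iterate_succ_apply]; exact h3
      · intro k hk1 hk2
        rw [← Function.iterate_succ_apply]
        exact h4 (k + 1) (by omega) (by omega)

theorem clen_complete {n h x r : ℕ} (h1 : 1 ≤ r) (h2 : r ≤ n) (h3 : (img h)^[r] x = x)
    (h4 : ∀ k, 1 ≤ k → k < r → (img h)^[k] x ≠ x) : clen n h x = r := by
  unfold clen
  rw [clenAux_complete h x n x 0 r h1 h2 h3 h4, Nat.zero_add]

theorem clen_of_isCycle {n g : ℕ} {γ : Equiv.Perm (Fin n)} (hr : Rep n g γ) (hc : γ.IsCycle)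
    {x : Fin n} (hx : γ x ≠ x) : clen n g x.val = γ.support.card := by
  have hord := hc.orderOf
  have hpos : 1 ≤ γ.support.card := by
    rw [← hord]; exact orderOf_pos γ
  have hle : γ.support.card ≤ n := by
    have := Finset.card_le_univ γ.support
    rw [Fintype.card_fin] at this
    exact this
  have key : ∀ k : ℕ, (img g)^[k] x.val = x.val ↔ γ.support.card ∣ k := by
    intro k
    rw [hr.iterate, ← hord, orderOf_dvd_iff_pow_eq_one, hc.pow_eq_one_iff' hx]
    exact ⟨fun h => Fin.ext h, fun h => congrArg Fin.val h⟩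
  apply clen_complete hpos hle
  · exact (key _).2 (dvd_refl _)
  · intro k hk1 hk2 he
    have := Nat.le_of_dvd (by omega) ((key k).1 he)
    omega

/-- the test at a leaf: the search, when the first return time of `2` is `q - 2`. -/
def ckT (q : ℕ) (ps : List (ℕ × ℕ × ℕ)) (p : ℕ) : Bool :=
  cond (Nat.beq (clen q p 2) (Nat.sub q 2)) (search q ps p) true

theorem ckT_sound {q : ℕ} {ps : List (ℕ × ℕ × ℕ)} (hps : PrimesOK q ps) (hq3 : 3 ≤ q) (hq : q < 16)
    {g : ℕ} {γ : Equiv.Perm (Fin q)} (hr : Rep q g γ) (hc : γ.IsCycle)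
    (hs : γ.support.card + 2 = q) (h2 : γ ⟨2, by omega⟩ ≠ ⟨2, by omega⟩)
    (h : ckT q ps g = true) : HasCyc q γ := by
  have e := clen_of_isCycle hr hc h2
  change clen q g 2 = _ at e
  have e2 : Nat.beq (clen q g 2) (Nat.sub q 2) = true := by
    rw [e]
    have : γ.support.card = Nat.sub q 2 := by change _ = q - 2; omega
    rw [this, Nat.beq_refl]
  unfold ckT at h
  rw [e2, cond_true] at h
  exact search_sound hps hq hr h

/-- what the enumeration gives. -/
def TwinNF (q : ℕ) : Prop :=
  ∀ γ : Equiv.Perm (Fin q), gv γ 0 = 0 → gv γ 1 = 1 → gv γ 2 = 3 → γ.IsCycle →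
    γ.support.card + 2 = q → HasCyc q γ

theorem testBit_eleven {v : ℕ} (h : Nat.testBit 11 v = true) : v = 0 ∨ v = 1 ∨ v = 3 := by
  have hv : v < 4 := by
    by_contra hv
    have : Nat.testBit 11 v = false := Nat.testBit_lt_two_pow
      (lt_of_lt_of_le (by norm_num : 11 < 2 ^ 4) (Nat.pow_le_pow_right (by norm_num) (by omega)))
    rw [this] at h
    exact Bool.noConfusion h
  interval_cases v
  · exact Or.inl rfl
  · exact Or.inr (Or.inl rfl)
  · exact absurd h (by decide)
  · exact Or.inr (Or.inr rfl)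

theorem twinNF_of_enum {q : ℕ} {ps : List (ℕ × ℕ × ℕ)} (hps : PrimesOK q ps) (hq5 : 5 ≤ q)
    (hq : q < 16) (h : enum q (ckT q ps) 0 (q - 3) 784 11 3 3 = true) : TwinNF q := by
  intro γ h0 h1 h2 hc hs
  have hnorm : Norm γ 0 := ⟨h0, fun _ _ => Nat.zero_le _⟩
  have hck := enum_spec (by omega : 0 < q) (ckT q ps) hnorm (q - 3) 784 11 3 3 (by omega)
    (by norm_num) (by
      rw [packF_succ, packF_succ, packF_succ, h0, h1, h2]
      rfl) (by
      intro v hv
      rcases testBit_eleven hv with rfl | rfl | rfl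
      · exact ⟨0, by norm_num, h0⟩
      · exact ⟨1, by norm_num, h1⟩
      · exact ⟨2, by norm_num, h2⟩) (by rw [h2]) h
  have h2' : γ ⟨2, by omega⟩ ≠ ⟨2, by omega⟩ := by
    intro he
    have : gv γ 2 = 2 := by
      unfold gv
      rw [dif_pos (by omega : 2 < q), he]
    omega
  exact ckT_sound hps (by omega) hq (rep_packF_gv (by omega) γ) hc hs h2' hck

end Cfsg.Agent.Helper9.AltGen
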