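import Mathlib
import Cfsg.Agent.Helper9.AltGen.Leaf

set_option autoImplicit false

/-!
The number `ctype` of the return times of a permutation, computed with one walk around every cycle.
-/

namespace Cfsg.Agent.Helper9.AltGen

open Cfsg.Agent.Helper9.T11

/-! ### the walk around a cycle -/

/-- the walk from `y` until `x` is met: the number of steps and the mask of the points met before,
as `s + 32 * m`. -/
def walkAux (h x : ℕ) : ℕ → ℕ → ℕ → ℕ → ℕ :=
  fun fuel => Nat.rec (motive := fun _ => ℕ → ℕ → ℕ → ℕ) (fun _ _ _ => 0)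
    (fun _ ih y s m => frc (img h y)
      (fun y' => cond (Nat.beq y' x) (Nat.add (Nat.succ s) (Nat.mul 32 m))
        (frc (Nat.lor m (Nat.shiftLeft 1 y')) (fun m' => ih y' (Nat.succ s) m')))) fuel

theorem walkAux_succ (h x fuel y s m : ℕ) : walkAux h x (fuel + 1) y s m =
    cond (Nat.beq (img h y) x) (s + 1 + 32 * m)
      (walkAux h x fuel (img h y) (s + 1) (m ||| 1 <<< img h y)) := by
  change frc (img h y) (fun y' => cond (Nat.beq y' x) (Nat.add (Nat.succ s) (Nat.mul 32 m))
    (frc (Nat.lor m (Nat.shiftLeft 1 y')) (fun m' => walkAux h x fuel y' (Nat.succ s) m'))) = _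
  rw [frc_eq, frc_eq]
  rfl

/-- the mask of the points `f y, ..., f^[k] y`. -/
def omask (f : ℕ → ℕ) : ℕ → ℕ → ℕ
  | _, 0 => 0
  | y, k + 1 => (1 <<< f y) ||| omask f (f y) k

theorem testBit_omask (f : ℕ → ℕ) (v : ℕ) : ∀ k y : ℕ,
    (omask f y k).testBit v = true ↔ ∃ i, 1 ≤ i ∧ i ≤ k ∧ f^[i] y = v := by
  intro k
  induction k with
  | zero =>
    intro y
    simp only [omask, Nat.zero_testBit, Bool.false_eq_true, false_iff]
    rintro ⟨i, h1, h2, -⟩
    omega
  | succ k ih =>
    intro y
    rw [omask, Nat.testBit_lor, Bool.or_eq_true, ih (f y), Nat.one_shiftLeft, Nat.testBit_two_pow]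
    simp only [decide_eq_true_eq]
    constructor
    · rintro (h1 | ⟨i, h1, h2, h3⟩)
      · exact ⟨1, le_refl 1, by omega, h1⟩
      · exact ⟨i + 1, by omega, by omega, by rw [Function.iterate_succ_apply]; exact h3⟩
    · rintro ⟨i, h1, h2, h3⟩
      rcases Nat.eq_or_lt_of_le h1 with h1 | h1
      · left
        rw [← h1] at h3
        exact h3
      · right
        obtain ⟨i', rfl⟩ : ∃ i', i = i' + 1 := ⟨i - 1, by omega⟩
        exact ⟨i', by omega, by omega, by rw [← Function.iterate_succ_apply]; exact h3⟩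

theorem walkAux_spec (h x : ℕ) : ∀ fuel y s m r : ℕ, 1 ≤ r → r ≤ fuel → (img h)^[r] y = x →
    (∀ k, 1 ≤ k → k < r → (img h)^[k] y ≠ x) →
    walkAux h x fuel y s m = s + r + 32 * (m ||| omask (img h) y (r - 1)) := by
  intro fuel
  induction fuel with
  | zero => intro y s m r h1 h2; omega
  | succ fuel ih =>
    intro y s m r h1 h2 h3 h4
    rw [walkAux_succ]
    rcases Nat.eq_or_lt_of_le h1 with h1 | h1
    · subst h1
      have e : img h y = x := h3
      rw [e, Nat.beq_refl, cond_true]
      simp [omask]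
    · have hne : img h y ≠ x := h4 1 (le_refl 1) h1
      have hb : Nat.beq (img h y) x = false := by
        rw [Bool.eq_false_iff]
        intro hb
        exact hne (Nat.eq_of_beq_eq_true hb)
      rw [hb, cond_false]
      obtain ⟨r', rfl⟩ : ∃ r', r = r' + 2 := ⟨r - 2, by omega⟩
      rw [ih (img h y) (s + 1) _ (r' + 1) (by omega) (by omega)]
      · have e1 : r' + 2 - 1 = r' + 1 := by omega
        have e2 : r' + 1 - 1 = r' := by omega
        rw [e1, e2, omask, Nat.lor_assoc]
        ring
      · rw [← Function.iterate_succ_apply]; exact h3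
      · intro k hk1 hk2
        rw [← Function.iterate_succ_apply]
        exact h4 (k + 1) (by omega) (by omega)

/-! ### the periods of the points -/

section
variable {n h : ℕ} {σ : Equiv.Perm (Fin n)}

theorem mem_pp (σ : Equiv.Perm (Fin n)) (a : Fin n) : a ∈ Function.periodicPts σ :=
  Function.Injective.mem_periodicPts σ.injective a

theorem clen_eq_minimalPeriod (hr : Rep n h σ) (a : Fin n) :
    clen n h a.val = Function.minimalPeriod σ a := by
  apply clen_complete
  · exact Function.minimalPeriod_pos_of_mem_periodicPts (mem_pp σ a)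
  · have := Function.minimalPeriod_le_card (f := σ) (x := a)
    rw [Fintype.card_fin] at this
    exact this
  · rw [hr.iterate, ← Equiv.Perm.iterate_eq_pow, Function.iterate_minimalPeriod]
  · intro k hk1 hk2 he
    rw [hr.iterate, ← Equiv.Perm.iterate_eq_pow] at he
    have hp : Function.IsPeriodicPt σ k a := Fin.ext he
    have := hp.minimalPeriod_le (by omega)
    omega

theorem clen_pow (hr : Rep n h σ) (a : Fin n) (i : ℕ) :
    clen n h ((σ ^ i) a).val = clen n h a.val := by
  rw [clen_eq_minimalPeriod hr, clen_eq_minimalPeriod hr, ← Equiv.Perm.iterate_eq_pow,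
    Function.minimalPeriod_apply_iterate (mem_pp σ a)]

theorem sameCycle_iff (σ : Equiv.Perm (Fin n)) (a b : Fin n) :
    σ.SameCycle a b ↔ ∃ i < Function.minimalPeriod σ a, (σ ^ i) a = b := by
  constructor
  · intro hs
    obtain ⟨i, hi⟩ := hs.exists_nat_pow_eq
    refine ⟨i % Function.minimalPeriod σ a,
      Nat.mod_lt _ (Function.minimalPeriod_pos_of_mem_periodicPts (mem_pp σ a)), ?_⟩
    rw [← hi, ← Equiv.Perm.iterate_eq_pow, ← Equiv.Perm.iterate_eq_pow,
      Function.iterate_mod_minimalPeriod_eq]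
  · rintro ⟨i, -, hi⟩
    exact ⟨(i : ℤ), by rw [zpow_natCast]; exact hi⟩

/-- the points of the cycle of `a`, as numbers. -/
noncomputable def cyc (σ : Equiv.Perm (Fin n)) (a : Fin n) : Finset ℕ :=
  (Finset.range (Function.minimalPeriod σ a)).image (fun i => ((σ ^ i) a).val)

theorem mem_cyc (σ : Equiv.Perm (Fin n)) (a : Fin n) (v : ℕ) :
    v ∈ cyc σ a ↔ ∃ hv : v < n, σ.SameCycle a ⟨v, hv⟩ := by
  unfold cyc
  rw [Finset.mem_image]
  constructor
  · rintro ⟨i, hi, rfl⟩
    refine ⟨Fin.isLt _, (sameCycle_iff σ a _).2 ⟨i, Finset.mem_range.1 hi, rfl⟩⟩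
  · rintro ⟨hv, hs⟩
    obtain ⟨i, hi, he⟩ := (sameCycle_iff σ a _).1 hs
    exact ⟨i, Finset.mem_range.2 hi, by rw [he]⟩

theorem card_cyc (σ : Equiv.Perm (Fin n)) (a : Fin n) :
    (cyc σ a).card = Function.minimalPeriod σ a := by
  unfold cyc
  rw [Finset.card_image_of_injOn, Finset.card_range]
  intro i hi j hj he
  rw [Finset.coe_range, Set.mem_Iio] at hi hj
  have he' : (σ ^ i) a = (σ ^ j) a := Fin.ext he
  rw [← Equiv.Perm.iterate_eq_pow, ← Equiv.Perm.iterate_eq_pow] at he'
  exact Function.iterate_injOn_Iio_minimalPeriod hi hj he'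

theorem sum_cyc (hr : Rep n h σ) (a : Fin n) :
    ∑ v ∈ cyc σ a, 16 ^ clen n h v = clen n h a.val * 16 ^ clen n h a.val := by
  have : ∀ v ∈ cyc σ a, 16 ^ clen n h v = 16 ^ clen n h a.val := by
    intro v hv
    unfold cyc at hv
    obtain ⟨i, -, rfl⟩ := Finset.mem_image.1 hv
    rw [clen_pow hr]
  rw [Finset.sum_congr rfl this, Finset.sum_const, card_cyc, smul_eq_mul,
    clen_eq_minimalPeriod hr]

/-- what the walk around the cycle of `a` gives. -/
theorem walk_cycle (hr : Rep n h σ) (a : Fin n) : ∃ M : ℕ,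
    walkAux h a.val n a.val 0 (1 <<< a.val) = clen n h a.val + 32 * M ∧
      ∀ v, M.testBit v = true ↔ v ∈ cyc σ a := by
  have hL := clen_eq_minimalPeriod hr a
  have hpos : 1 ≤ Function.minimalPeriod σ a :=
    Function.minimalPeriod_pos_of_mem_periodicPts (mem_pp σ a)
  have hle : Function.minimalPeriod σ a ≤ n := by
    have := Function.minimalPeriod_le_card (f := σ) (x := a)
    rw [Fintype.card_fin] at this
    exact this
  refine ⟨1 <<< a.val ||| omask (img h) a.val (Function.minimalPeriod σ a - 1), ?_, ?_⟩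
  · rw [walkAux_spec h a.val n a.val 0 _ (Function.minimalPeriod σ a) hpos hle, hL, Nat.zero_add]
    · rw [hr.iterate, ← Equiv.Perm.iterate_eq_pow, Function.iterate_minimalPeriod]
    · intro k hk1 hk2 he
      rw [hr.iterate, ← Equiv.Perm.iterate_eq_pow] at he
      have hp : Function.IsPeriodicPt σ k a := Fin.ext he
      have := hp.minimalPeriod_le (by omega)
      omega
  · intro v
    rw [Nat.testBit_lor, Bool.or_eq_true, testBit_omask, Nat.one_shiftLeft, Nat.testBit_two_pow]
    simp only [decide_eq_true_eq]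
    unfold cyc
    rw [Finset.mem_image]
    constructor
    · rintro (h1 | ⟨i, h1, h2, h3⟩)
      · exact ⟨0, Finset.mem_range.2 hpos, by rw [pow_zero, Equiv.Perm.one_apply]; exact h1⟩
      · exact ⟨i, Finset.mem_range.2 (by omega), by rw [← hr.iterate]; exact h3⟩
    · rintro ⟨i, hi, rfl⟩
      rw [Finset.mem_range] at hi
      rcases Nat.eq_zero_or_pos i with rfl | hi0
      · left
        rw [pow_zero, Equiv.Perm.one_apply]
      · right
        exact ⟨i, hi0, by omega, hr.iterate i a⟩

end

/-! ### the loop over the points -/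

/-- the loop over the points from `x`: `vis` is the mask of the points of the cycles met, `acc` the
sum of `16 ^ t` over their return times `t`. -/
def loopV (n h : ℕ) : ℕ → ℕ → ℕ → ℕ → ℕ :=
  fun fuel => Nat.rec (motive := fun _ => ℕ → ℕ → ℕ → ℕ) (fun _ _ acc => acc)
    (fun _ ih x vis acc => cond (bit vis x) (ih (Nat.succ x) vis acc)
      (frc (walkAux h x n x 0 (Nat.shiftLeft 1 x)) (fun r =>
        frc (Nat.mod r 32) (fun L => frc (Nat.lor vis (Nat.div r 32)) (fun vis' =>
          frc (Nat.add acc (Nat.mul L (Nat.pow 16 L))) (fun acc' =>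
            ih (Nat.succ x) vis' acc')))))) fuel

theorem loopV_zero (n h x vis acc : ℕ) : loopV n h 0 x vis acc = acc := rfl

theorem loopV_succ (n h fuel x vis acc : ℕ) : loopV n h (fuel + 1) x vis acc =
    cond (bit vis x) (loopV n h fuel (x + 1) vis acc)
      (loopV n h fuel (x + 1) (vis ||| walkAux h x n x 0 (1 <<< x) / 32)
        (acc + walkAux h x n x 0 (1 <<< x) % 32 * 16 ^ (walkAux h x n x 0 (1 <<< x) % 32))) := by
  change cond (bit vis x) (loopV n h fuel (Nat.succ x) vis acc)
    (frc (walkAux h x n x 0 (Nat.shiftLeft 1 x)) (fun r =>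
      frc (Nat.mod r 32) (fun L => frc (Nat.lor vis (Nat.div r 32)) (fun vis' =>
        frc (Nat.add acc (Nat.mul L (Nat.pow 16 L))) (fun acc' =>
          loopV n h fuel (Nat.succ x) vis' acc'))))) = _
  rw [frc_eq, frc_eq, frc_eq, frc_eq]
  rfl

/-- the sum of `16 ^ t` over the return times `t` of the points, with one walk around every cycle. -/
def ctypeV (n h : ℕ) : ℕ := loopV n h n 0 0 0

theorem ctype_eq_sum (n h : ℕ) : ctype n h = ∑ v ∈ Finset.range n, 16 ^ clen n h v := by
  unfold ctype
  have : ∀ k : ℕ, ctypeAux n h k = ∑ v ∈ Finset.range k, 16 ^ clen n h v := by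
    intro k
    induction k with
    | zero => rfl
    | succ k ih => rw [ctypeAux_succ, ih, Finset.sum_range_succ]
  exact this n

section
variable {n h : ℕ} {σ : Equiv.Perm (Fin n)}

theorem loopV_spec (hr : Rep n h σ) (hn : n ≤ 16) : ∀ fuel x vis acc : ℕ, fuel + x = n →
    (∀ v, vis.testBit v = true ↔ ∃ z, z < x ∧ ∃ hzn : z < n, v ∈ cyc σ ⟨z, hzn⟩) →
    acc = ∑ v ∈ (Finset.range n).filter (fun v => vis.testBit v = true), 16 ^ clen n h v →
    loopV n h fuel x vis acc = ∑ v ∈ Finset.range n, 16 ^ clen n h v := by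
  intro fuel
  induction fuel with
  | zero =>
    intro x vis acc hx hvis hacc
    rw [loopV_zero, hacc]
    have hxn : x = n := by omega
    subst hxn
    congr 1
    apply Finset.filter_true_of_mem
    intro v hv
    rw [Finset.mem_range] at hv
    rw [hvis]
    exact ⟨v, hv, hv, (mem_cyc σ _ v).2 ⟨hv, Equiv.Perm.SameCycle.refl σ _⟩⟩
  | succ fuel ih =>
    intro x vis acc hx hvis hacc
    have hxn : x < n := by omega
    rw [loopV_succ]
    cases hb : bit vis x
    · -- a new cycle
      rw [cond_false]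
      obtain ⟨M, hw, hM⟩ := walk_cycle hr ⟨x, hxn⟩
      change walkAux h x n x 0 (1 <<< x) = clen n h x + 32 * M at hw
      have hL : clen n h x < 32 := lt_of_le_of_lt (clen_le n h x) (by omega)
      have e1 : (clen n h x + 32 * M) % 32 = clen n h x := by omega
      have e2 : (clen n h x + 32 * M) / 32 = M := by omega
      rw [hw, e1, e2]
      have hnot : ∀ v, v ∈ cyc σ ⟨x, hxn⟩ → vis.testBit v = false := by
        intro v hv
        rw [Bool.eq_false_iff]
        intro hv'
        obtain ⟨z, hz, hzn, hvz⟩ := (hvis v).1 hv'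
        obtain ⟨hvn, hs1⟩ := (mem_cyc σ _ v).1 hv
        obtain ⟨_, hs2⟩ := (mem_cyc σ _ v).1 hvz
        have hs3 : σ.SameCycle ⟨z, hzn⟩ ⟨x, hxn⟩ := hs2.trans hs1.symm
        have : vis.testBit x = true := (hvis x).2 ⟨z, hz, hzn, (mem_cyc σ _ x).2 ⟨hxn, hs3⟩⟩
        rw [bit_eq] at hb
        rw [hb] at this
        exact Bool.noConfusion this
      apply ih (x + 1) _ _ (by omega)
      · intro v
        rw [Nat.testBit_lor, Bool.or_eq_true, hvis, hM]
        constructor
        · rintro (⟨z, hz, hzn, hv⟩ | hv)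
          · exact ⟨z, by omega, hzn, hv⟩
          · exact ⟨x, by omega, hxn, hv⟩
        · rintro ⟨z, hz, hzn, hv⟩
          rcases Nat.lt_succ_iff_lt_or_eq.1 hz with hz | rfl
          · exact Or.inl ⟨z, hz, hzn, hv⟩
          · exact Or.inr hv
      · have hfil : (Finset.range n).filter (fun v => (vis ||| M).testBit v = true) =
            (Finset.range n).filter (fun v => vis.testBit v = true) ∪ cyc σ ⟨x, hxn⟩ := by
          ext v
          rw [Finset.mem_union, Finset.mem_filter, Finset.mem_filter, Nat.testBit_lor,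
            Bool.or_eq_true, hM]
          constructor
          · rintro ⟨h1, h2 | h2⟩
            · exact Or.inl ⟨h1, h2⟩
            · exact Or.inr h2
          · rintro (⟨h1, h2⟩ | h2)
            · exact ⟨h1, Or.inl h2⟩
            · exact ⟨Finset.mem_range.2 ((mem_cyc σ _ v).1 h2).1, Or.inr h2⟩
        have hdisj : Disjoint ((Finset.range n).filter (fun v => vis.testBit v = true))
            (cyc σ ⟨x, hxn⟩) := by
          rw [Finset.disjoint_left]
          intro v h1 h2
          rw [Finset.mem_filter] at h1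
          rw [hnot v h2] at h1
          exact Bool.noConfusion h1.2
        rw [hfil, Finset.sum_union hdisj, ← hacc, sum_cyc hr]
    · -- a cycle met before
      rw [cond_true]
      apply ih (x + 1) vis acc (by omega) _ hacc
      intro v
      rw [hvis]
      constructor
      · rintro ⟨z, hz, hzn, hv⟩
        exact ⟨z, by omega, hzn, hv⟩
      · rintro ⟨z, hz, hzn, hv⟩
        rcases Nat.lt_succ_iff_lt_or_eq.1 hz with hz | rfl
        · exact ⟨z, hz, hzn, hv⟩
        · rw [bit_eq] at hb
          obtain ⟨z0, hz0, hz0n, hx0⟩ := (hvis z).1 hb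
          obtain ⟨_, hs1⟩ := (mem_cyc σ _ z).1 hx0
          obtain ⟨hvn, hs2⟩ := (mem_cyc σ _ v).1 hv
          exact ⟨z0, hz0, hz0n, (mem_cyc σ _ v).2 ⟨hvn, hs1.trans hs2⟩⟩

theorem ctypeV_eq (hr : Rep n h σ) (hn : n ≤ 16) : ctypeV n h = ctype n h := by
  rw [ctype_eq_sum]
  unfold ctypeV
  apply loopV_spec hr hn n 0 0 0 (by omega)
  · intro v
    rw [Nat.zero_testBit]
    constructor
    · intro hf; exact Bool.noConfusion hf
    · rintro ⟨z, hz, -⟩; omega
  · have : (Finset.range n).filter (fun v => (0 : ℕ).testBit v = true) = ∅ := by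
      apply Finset.filter_false_of_mem
      intro v _
      rw [Nat.zero_testBit]
      exact Bool.false_ne_true
    rw [this, Finset.sum_empty]

end

end Cfsg.Agent.Helper9.AltGen
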