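import Mathlib
import Cfsg.Agent.Helper9.AltGen.Fast

set_option autoImplicit false

/-!
The search with the fast computation of the return times.
-/

namespace Cfsg.Agent.Helper9.AltGen

open Cfsg.Agent.Helper9.T11

/-- the test of a word for a list of primes, with `ctypeV`. -/
def goodWF (n : ℕ) (ps : List (ℕ × ℕ × ℕ)) (g : ℕ) (w : List ℕ) : Bool :=
  frc (wmap n g w) (fun h => frc (ctypeV n h) (fun t => anyP t ps))

theorem goodWF_eq {n : ℕ} (ps : List (ℕ × ℕ × ℕ)) {g : ℕ} {γ : Equiv.Perm (Fin n)} (hn : n ≤ 16)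
    (hr : Rep n g γ) (w : List ℕ) : goodWF n ps g w = goodW n ps g w := by
  unfold goodWF
  rw [frc_eq, frc_eq, goodW_eq, ctypeV_eq (wmap_rep hn hr w) hn]

/-- the search among the words `[i]`, `i < k`. -/
def searchF1 (n : ℕ) (ps : List (ℕ × ℕ × ℕ)) (g : ℕ) : ℕ → Bool :=
  fun k => Nat.rec (motive := fun _ => Bool) false (fun i ih => or (goodWF n ps g [i]) ih) k

/-- the search among the words `[i, j]`, `j < k`. -/
def searchF2b (n : ℕ) (ps : List (ℕ × ℕ × ℕ)) (g i : ℕ) : ℕ → Bool :=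
  fun k => Nat.rec (motive := fun _ => Bool) false (fun j ih => or (goodWF n ps g [i, j]) ih) k

/-- the search among the words `[i, j]`, `i < k`, `j < n`. -/
def searchF2 (n : ℕ) (ps : List (ℕ × ℕ × ℕ)) (g : ℕ) : ℕ → Bool :=
  fun k => Nat.rec (motive := fun _ => Bool) false (fun i ih => or (searchF2b n ps g i n) ih) k

/-- the search. -/
def searchF (n : ℕ) (ps : List (ℕ × ℕ × ℕ)) (g : ℕ) : Bool :=
  or (searchF1 n ps g n) (searchF2 n ps g n)

section
variable {n : ℕ} (ps : List (ℕ × ℕ × ℕ)) {g : ℕ} {γ : Equiv.Perm (Fin n)}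

theorem searchF1_eq (hn : n ≤ 16) (hr : Rep n g γ) (k : ℕ) :
    searchF1 n ps g k = search1 n ps g k := by
  induction k with
  | zero => rfl
  | succ k ih =>
    change (goodWF n ps g [k] || searchF1 n ps g k) = (goodW n ps g [k] || search1 n ps g k)
    rw [ih, goodWF_eq ps hn hr]

theorem searchF2b_eq (hn : n ≤ 16) (hr : Rep n g γ) (i k : ℕ) :
    searchF2b n ps g i k = search2b n ps g i k := by
  induction k with
  | zero => rfl
  | succ k ih =>
    change (goodWF n ps g [i, k] || searchF2b n ps g i k) =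
      (goodW n ps g [i, k] || search2b n ps g i k)
    rw [ih, goodWF_eq ps hn hr]

theorem searchF2_eq (hn : n ≤ 16) (hr : Rep n g γ) (k : ℕ) :
    searchF2 n ps g k = search2 n ps g k := by
  induction k with
  | zero => rfl
  | succ k ih =>
    change (searchF2b n ps g k n || searchF2 n ps g k) = (search2b n ps g k n || search2 n ps g k)
    rw [ih, searchF2b_eq ps hn hr]

theorem searchF_eq (hn : n ≤ 16) (hr : Rep n g γ) : searchF n ps g = search n ps g := by
  change (searchF1 n ps g n || searchF2 n ps g n) = (search1 n ps g n || search2 n ps g n)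
  rw [searchF1_eq ps hn hr, searchF2_eq ps hn hr]

end

/-- the test at a leaf, with the fast search. -/
def ckTF (q : ℕ) (ps : List (ℕ × ℕ × ℕ)) (p : ℕ) : Bool :=
  cond (Nat.beq (clen q p 2) (Nat.sub q 2)) (searchF q ps p) true

theorem ckTF_eq {q : ℕ} (ps : List (ℕ × ℕ × ℕ)) {g : ℕ} {γ : Equiv.Perm (Fin q)} (hq : q ≤ 16)
    (hr : Rep q g γ) : ckTF q ps g = ckT q ps g := by
  unfold ckTF ckT
  rw [searchF_eq ps hq hr]

theorem twinNF_of_enumF {q : ℕ} {ps : List (ℕ × ℕ × ℕ)} (hps : PrimesOK q ps) (hq5 : 5 ≤ q)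
    (hq : q < 16) (h : enum q (ckTF q ps) 0 (q - 3) 784 11 3 3 = true) : TwinNF q := by
  intro γ h0 h1 h2 hc hs
  have hnorm : Norm γ 0 := ⟨h0, fun _ _ => Nat.zero_le _⟩
  have hck := enum_spec (by omega : 0 < q) (ckTF q ps) hnorm (q - 3) 784 11 3 3 (by omega)
    (by norm_num) (by
      rw [packF_succ, packF_succ, packF_succ, h0, h1, h2]
      rfl) (by
      intro v hv
      rcases testBit_eleven hv with rfl | rfl | rfl
      · exact ⟨0, by norm_num, h0⟩
      · exact ⟨1, by norm_num, h1⟩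
      · exact ⟨2, by norm_num, h2⟩) (by rw [h2]) h
  have h2' : γ ⟨2, by omega⟩ ≠ ⟨2, by omega⟩ := by
    intro he
    have : gv γ 2 = 2 := by
      unfold gv
      rw [dif_pos (by omega : 2 < q), he]
    omega
  rw [ckTF_eq ps (by omega) (rep_packF_gv (by omega) γ)] at hck
  exact ckT_sound hps (by omega) hq (rep_packF_gv (by omega) γ) hc hs h2' hck

end Cfsg.Agent.Helper9.AltGen
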