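import Mathlib
import Cfsg.Agent.Helper9.AltGen.FastS

set_option autoImplicit false

/-!
The enumeration of the cycles of `q - 2` of `q` points that fix `0` and `1` and map `2` to `3`, along
the cycle, with a test at every such cycle.
-/

namespace Cfsg.Agent.Helper9.AltGen

open Cfsg.Agent.Helper9.T11

/-- the loop over the values `v < k` of the next point of the cycle. -/
def enumCV (cont : ℕ → ℕ → ℕ → Bool) (p u last : ℕ) : ℕ → Bool :=
  fun k => Nat.rec (motive := fun _ => Bool) true
    (fun v ih => cond (bit u v) ih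
      (and (frc (Nat.add p (Nat.mul v (Nat.pow 16 last))) (fun p' =>
        frc (Nat.lor u (Nat.shiftLeft 1 v)) (fun u' => cont p' u' v))) ih)) k

theorem enumCV_succ (cont : ℕ → ℕ → ℕ → Bool) (p u last v : ℕ) :
    enumCV cont p u last (v + 1) = cond (bit u v) (enumCV cont p u last v)
      (cont (p + v * 16 ^ last) (u ||| 1 <<< v) v && enumCV cont p u last v) := by
  change cond (bit u v) (enumCV cont p u last v)
    (frc (p + v * 16 ^ last) (fun p' => frc (u ||| 1 <<< v) (fun u' => cont p' u' v)) &&
      enumCV cont p u last v) = _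
  rw [frc_eq, frc_eq]

theorem enumCV_spec (cont : ℕ → ℕ → ℕ → Bool) (p u last : ℕ) : ∀ k : ℕ,
    enumCV cont p u last k = true → ∀ v < k, bit u v = false →
      cont (p + v * 16 ^ last) (u ||| 1 <<< v) v = true := by
  intro k
  induction k with
  | zero => intro _ v hv; exact absurd hv (Nat.not_lt_zero v)
  | succ k ih =>
    intro h v hv hb
    rw [enumCV_succ] at h
    rcases Nat.lt_succ_iff_lt_or_eq.1 hv with hv | rfl
    · apply ih _ v hv hb
      cases h1 : bit u k
      · rw [h1, cond_false, Bool.and_eq_true] at h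
        exact h.2
      · rw [h1, cond_true] at h
        exact h
    · rw [hb, cond_false, Bool.and_eq_true] at h
      exact h.1

theorem enumCV_intro (cont : ℕ → ℕ → ℕ → Bool) (p u last : ℕ) : ∀ k : ℕ,
    (∀ v < k, bit u v = false → cont (p + v * 16 ^ last) (u ||| 1 <<< v) v = true) →
    enumCV cont p u last k = true := by
  intro k
  induction k with
  | zero => intro _; rfl
  | succ k ih =>
    intro h
    rw [enumCV_succ]
    have h1 := ih (fun v hv => h v (Nat.lt_succ_of_lt hv))
    cases hb : bit u k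
    · rw [cond_false, h k (Nat.lt_succ_self k) hb, h1]
      rfl
    · rw [cond_true]
      exact h1

/-- the enumeration along the cycle: `p` the digits so far, `u` the mask of the points so far,
`last` the last point; the cycle is closed at the point `2` at the end. -/
def enumC (n : ℕ) (ck : ℕ → Bool) : ℕ → ℕ → ℕ → ℕ → Bool :=
  fun fuel => Nat.rec (motive := fun _ => ℕ → ℕ → ℕ → Bool)
    (fun p _ last => frc (Nat.add p (Nat.mul 2 (Nat.pow 16 last))) ck)
    (fun _ ih p u last => enumCV (fun p' u' v => ih p' u' v) p u last n) fuel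

theorem enumC_zero (n : ℕ) (ck : ℕ → Bool) (p u last : ℕ) :
    enumC n ck 0 p u last = ck (p + 2 * 16 ^ last) := by
  change frc (p + 2 * 16 ^ last) ck = _
  rw [frc_eq]

theorem enumC_succ (n : ℕ) (ck : ℕ → Bool) (fuel p u last : ℕ) :
    enumC n ck (fuel + 1) p u last =
      enumCV (fun p' u' v => enumC n ck fuel p' u' v) p u last n := rfl

theorem enumC_intro (n : ℕ) (ck : ℕ → Bool) (fuel p u last : ℕ)
    (h : ∀ v < n, bit u v = false →
      enumC n ck fuel (p + v * 16 ^ last) (u ||| 1 <<< v) v = true) :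
    enumC n ck (fuel + 1) p u last = true := by
  rw [enumC_succ]
  exact enumCV_intro _ p u last n h

/-! ### the cycle met by the enumeration -/

section
variable {n : ℕ} (γ : Equiv.Perm (Fin n)) (hn : 2 < n)

/-- the points of the cycle of `2`. -/
def sq (i : ℕ) : ℕ := ((γ ^ i) ⟨2, hn⟩).val

/-- the digits after `j` steps. -/
def pj : ℕ → ℕ
  | 0 => 16
  | j + 1 => pj j + sq γ hn (j + 1) * 16 ^ sq γ hn j

/-- the mask after `j` steps. -/
def uj : ℕ → ℕ
  | 0 => 7
  | j + 1 => uj j ||| 1 <<< sq γ hn (j + 1)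

theorem sq_lt (i : ℕ) : sq γ hn i < n := Fin.isLt _

theorem testBit_uj (j v : ℕ) :
    (uj γ hn j).testBit v = true ↔ v = 0 ∨ v = 1 ∨ ∃ i ≤ j, sq γ hn i = v := by
  induction j with
  | zero =>
    have h7 : ∀ w, Nat.testBit 7 w = true ↔ w < 3 := by
      intro w
      have : (7 : ℕ) = 2 ^ 3 - 1 := by norm_num
      rw [this, Nat.testBit_two_pow_sub_one]
      simp
    have h0 : sq γ hn 0 = 2 := by unfold sq; rw [pow_zero, Equiv.Perm.one_apply]
    rw [uj, h7]
    constructor
    · intro hv
      interval_cases v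
      · exact Or.inl rfl
      · exact Or.inr (Or.inl rfl)
      · exact Or.inr (Or.inr ⟨0, le_refl 0, h0⟩)
    · rintro (rfl | rfl | ⟨i, hi, rfl⟩)
      · norm_num
      · norm_num
      · have : i = 0 := by omega
        subst this
        rw [h0]
        norm_num
  | succ j ih =>
    rw [uj, Nat.testBit_lor, Bool.or_eq_true, ih, Nat.one_shiftLeft, Nat.testBit_two_pow]
    simp only [decide_eq_true_eq]
    constructor
    · rintro ((h | h | ⟨i, hi, h⟩) | h)
      · exact Or.inl h
      · exact Or.inr (Or.inl h)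
      · exact Or.inr (Or.inr ⟨i, by omega, h⟩)
      · exact Or.inr (Or.inr ⟨j + 1, le_refl _, h⟩)
    · rintro (h | h | ⟨i, hi, h⟩)
      · exact Or.inl (Or.inl h)
      · exact Or.inl (Or.inr (Or.inl h))
      · rcases Nat.lt_succ_iff_lt_or_eq.1 (Nat.lt_succ_of_le hi) with hi | rfl
        · exact Or.inl (Or.inr (Or.inr ⟨i, by omega, h⟩))
        · exact Or.inr h

theorem enumC_spec (ck : ℕ → Bool) {L : ℕ}
    (hdist : ∀ i, i < L → sq γ hn i ≠ 0 ∧ sq γ hn i ≠ 1 ∧ ∀ k < i, sq γ hn k ≠ sq γ hn i) :
    ∀ fuel j : ℕ, fuel + j + 1 = L →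
      enumC n ck fuel (pj γ hn j) (uj γ hn j) (sq γ hn j) = true →
      ck (pj γ hn (L - 1) + 2 * 16 ^ sq γ hn (L - 1)) = true := by
  intro fuel
  induction fuel with
  | zero =>
    intro j hj h
    rw [enumC_zero] at h
    have : L - 1 = j := by omega
    rw [this]
    exact h
  | succ fuel ih =>
    intro j hj h
    rw [enumC_succ] at h
    have hb : bit (uj γ hn j) (sq γ hn (j + 1)) = false := by
      rw [bit_eq, Bool.eq_false_iff]
      intro hv
      obtain ⟨h0, h1, h2⟩ := hdist (j + 1) (by omega)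
      rcases (testBit_uj γ hn j _).1 hv with hv | hv | ⟨i, hi, hv⟩
      · exact h0 hv
      · exact h1 hv
      · exact h2 i (by omega) hv
    have h1 := enumCV_spec _ (pj γ hn j) (uj γ hn j) (sq γ hn j) n h (sq γ hn (j + 1))
      (sq_lt γ hn _) hb
    exact ih (j + 1) (by omega) h1

end

end Cfsg.Agent.Helper9.AltGen
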