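import Mathlib
import Cfsg.Agent.Helper9.AltGen.EnumC

set_option autoImplicit false

/-!
What the enumeration along the cycle gives: the search holds at every cycle of `q - 2` of `q` points
that fixes `0` and `1` and maps `2` to `3`.
-/

namespace Cfsg.Agent.Helper9.AltGen

open Cfsg.Agent.Helper9.T11

theorem packF_eq_sum (f : ℕ → ℕ) (n : ℕ) : packF f n = ∑ x ∈ Finset.range n, f x * 16 ^ x := by
  induction n with
  | zero => rfl
  | succ n ih => rw [packF_succ, ih, Finset.sum_range_succ]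

section
variable {q : ℕ} (γ : Equiv.Perm (Fin q)) (hq : 5 ≤ q)

theorem pj_eq_sum (hn : 2 < q) (j : ℕ) :
    pj γ hn j = 16 + ∑ i ∈ Finset.range j, sq γ hn (i + 1) * 16 ^ sq γ hn i := by
  induction j with
  | zero => rfl
  | succ j ih => rw [pj, ih, Finset.sum_range_succ, Nat.add_assoc]

theorem sq_succ (hn : 2 < q) (i : ℕ) : sq γ hn (i + 1) = gv γ (sq γ hn i) := by
  unfold sq
  rw [gv_val, pow_succ', Equiv.Perm.mul_apply]

variable (h0 : gv γ 0 = 0) (h1 : gv γ 1 = 1) (h2 : gv γ 2 = 3) (hc : γ.IsCycle)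
  (hs : γ.support.card + 2 = q)

include h0 h1 h2 hc hs hq

theorem sq_facts : (∀ i, sq γ (by omega) i ≠ 0 ∧ sq γ (by omega) i ≠ 1) ∧
    (∀ i k, k < i → i < q - 2 → sq γ (by omega) k ≠ sq γ (by omega) i) ∧
    sq γ (by omega) (q - 2) = 2 := by
  have hn : 2 < q := by omega
  have hγ0 : γ ⟨0, by omega⟩ = ⟨0, by omega⟩ := by
    apply Fin.ext
    have := gv_val γ ⟨0, by omega⟩
    rw [← this]
    exact h0
  have hγ1 : γ ⟨1, by omega⟩ = ⟨1, by omega⟩ := by
    apply Fin.ext
    have := gv_val γ ⟨1, by omega⟩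
    rw [← this]
    exact h1
  have hγ2 : γ ⟨2, hn⟩ ≠ ⟨2, hn⟩ := by
    intro he
    have := gv_val γ ⟨2, hn⟩
    rw [he] at this
    change gv γ 2 = 2 at this
    omega
  have hord : orderOf γ = q - 2 := by rw [hc.orderOf]; omega
  refine ⟨fun i => ⟨?_, ?_⟩, ?_, ?_⟩
  · intro he
    have e1 : (γ ^ i) ⟨2, hn⟩ = ⟨0, by omega⟩ := Fin.ext he
    have e2 : (γ ^ i) ⟨0, by omega⟩ = ⟨0, by omega⟩ :=
      Equiv.Perm.pow_apply_eq_self_of_apply_eq_self hγ0 i
    have := (γ ^ i).injective (e1.trans e2.symm)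
    exact absurd (congrArg Fin.val this) (by norm_num)
  · intro he
    have e1 : (γ ^ i) ⟨2, hn⟩ = ⟨1, by omega⟩ := Fin.ext he
    have e2 : (γ ^ i) ⟨1, by omega⟩ = ⟨1, by omega⟩ :=
      Equiv.Perm.pow_apply_eq_self_of_apply_eq_self hγ1 i
    have := (γ ^ i).injective (e1.trans e2.symm)
    exact absurd (congrArg Fin.val this) (by norm_num)
  · intro i k hki hi he
    have e1 : (γ ^ k) ⟨2, hn⟩ = (γ ^ i) ⟨2, hn⟩ := Fin.ext he
    have e2 : γ ^ i = γ ^ k * γ ^ (i - k) := by rw [← pow_add]; congr 1; omega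
    rw [e2, Equiv.Perm.mul_apply] at e1
    have e3 : (γ ^ (i - k)) ⟨2, hn⟩ = ⟨2, hn⟩ := ((γ ^ k).injective e1).symm
    rw [← hc.pow_eq_one_iff' hγ2, ← orderOf_dvd_iff_pow_eq_one, hord] at e3
    have := Nat.le_of_dvd (by omega) e3
    omega
  · unfold sq
    rw [← hord, pow_orderOf_eq_one, Equiv.Perm.one_apply]

theorem final_eq : pj γ (by omega) (q - 3) + 2 * 16 ^ sq γ (by omega) (q - 3) = packF (gv γ) q := by
  have hn : 2 < q := by omega
  obtain ⟨hne, hdist, hlast⟩ := sq_facts γ hq h0 h1 h2 hc hs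
  have e3 : q - 2 = (q - 3) + 1 := by omega
  have hsum : pj γ hn (q - 3) + 2 * 16 ^ sq γ hn (q - 3) =
      16 + ∑ i ∈ Finset.range (q - 2), sq γ hn (i + 1) * 16 ^ sq γ hn i := by
    rw [pj_eq_sum, e3, Finset.sum_range_succ, ← e3, hlast, Nat.add_assoc]
  rw [hsum, packF_eq_sum]
  have himg : (Finset.range (q - 2)).image (sq γ hn) = Finset.Ico 2 q := by
    apply Finset.eq_of_subset_of_card_le
    · intro v hv
      obtain ⟨i, -, rfl⟩ := Finset.mem_image.1 hv
      rw [Finset.mem_Ico]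
      have := hne i
      have := sq_lt γ hn i
      omega
    · rw [Finset.card_image_of_injOn, Finset.card_range, Nat.card_Ico]
      intro i hi k hk he
      rw [Finset.coe_range, Set.mem_Iio] at hi hk
      by_contra hik
      rcases lt_or_gt_of_ne hik with hlt | hlt
      · exact hdist k i hlt hk he
      · exact hdist i k hlt hi he.symm
  have hinj : Set.InjOn (sq γ hn) (Finset.range (q - 2)) := by
    intro i hi k hk he
    rw [Finset.coe_range, Set.mem_Iio] at hi hk
    by_contra hik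
    rcases lt_or_gt_of_ne hik with hlt | hlt
    · exact hdist k i hlt hk he
    · exact hdist i k hlt hi he.symm
  have hsplit : Finset.range q = {0, 1} ∪ Finset.Ico 2 q := by
    ext v
    simp only [Finset.mem_range, Finset.mem_union, Finset.mem_insert, Finset.mem_singleton,
      Finset.mem_Ico]
    omega
  have hdisj : Disjoint ({0, 1} : Finset ℕ) (Finset.Ico 2 q) := by
    rw [Finset.disjoint_left]
    intro v hv hv2
    simp only [Finset.mem_insert, Finset.mem_singleton] at hv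
    rw [Finset.mem_Ico] at hv2
    omega
  rw [hsplit, Finset.sum_union hdisj, Finset.sum_pair (by norm_num), h0, h1, ← himg,
    Finset.sum_image hinj]
  have : ∀ i ∈ Finset.range (q - 2), sq γ hn (i + 1) * 16 ^ sq γ hn i =
      gv γ (sq γ hn i) * 16 ^ sq γ hn i := by
    intro i _
    rw [sq_succ]
  rw [Finset.sum_congr rfl this]
  norm_num

omit h0 h1 h2 hc hs hq in
theorem twinNF_of_enumC {q : ℕ} {ps : List (ℕ × ℕ × ℕ)} (hps : PrimesOK q ps) (hq5 : 5 ≤ q)
    (hq16 : q < 16) (h : enumC q (searchF q ps) (q - 4) 784 15 3 = true) : TwinNF q := by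
  intro γ h0 h1 h2 hc hs
  have hn : 2 < q := by omega
  obtain ⟨hne, hdist, hlast⟩ := sq_facts γ hq5 h0 h1 h2 hc hs
  have hs0 : sq γ hn 0 = 2 := by unfold sq; rw [pow_zero, Equiv.Perm.one_apply]
  have hs1 : sq γ hn 1 = 3 := by rw [sq_succ, hs0, h2]
  have hstart : enumC q (searchF q ps) (q - 4) (pj γ hn 1) (uj γ hn 1) (sq γ hn 1) = true := by
    have e1 : pj γ hn 1 = 784 := by
      change pj γ hn 0 + sq γ hn 1 * 16 ^ sq γ hn 0 = 784
      rw [hs0, hs1]
      rfl
    have e2 : uj γ hn 1 = 15 := by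
      change uj γ hn 0 ||| 1 <<< sq γ hn 1 = 15
      have e0 : uj γ hn 0 = 7 := rfl
      rw [hs1, e0]
      decide
    rw [e1, e2, hs1]
    exact h
  have hck := enumC_spec γ hn (searchF q ps) (L := q - 2)
    (fun i hi => ⟨(hne i).1, (hne i).2, fun k hk => hdist i k hk hi⟩) (q - 4) 1 (by omega) hstart
  have e3 : q - 2 - 1 = q - 3 := by omega
  rw [e3, final_eq γ hq5 h0 h1 h2 hc hs] at hck
  have hr := rep_packF_gv (by omega : q ≤ 16) γ
  rw [searchF_eq ps (by omega) hr] at hck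
  exact search_sound hps hq16 hr hck

end

end Cfsg.Agent.Helper9.AltGen
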