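import Mathlib

set_option autoImplicit false

/-!
A transitive group of permutations that contains a cycle of prime length `q`, on less than `2 q`
points, is primitive.
-/

namespace Cfsg.Agent.Helper9.AltGen

open scoped Pointwise

theorem preprimitive_of_prime_cycle {α : Type*} [Fintype α] [DecidableEq α]
    (G : Subgroup (Equiv.Perm α)) [hG : MulAction.IsPretransitive G α] {q : ℕ} (hq : q.Prime)
    {y : Equiv.Perm α} (hy : y ∈ G) (hcyc : y.IsCycle) (hcard : y.support.card = q)
    (hlarge : Fintype.card α < 2 * q) : MulAction.IsPreprimitive G α := by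
  classical
  refine ⟨fun {B} hB => ?_⟩
  by_contra htriv
  rw [MulAction.IsTrivialBlock, not_or] at htriv
  obtain ⟨hns, hnu⟩ := htriv
  have hnt : B.Nontrivial := Set.not_subsingleton_iff.1 hns
  have h2 : 2 ≤ B.ncard := by
    have := (Set.one_lt_ncard (Set.toFinite B)).2 hnt
    omega
  have hle : B.ncard * 2 ≤ Fintype.card α := by
    by_contra h
    exact hnu (hB.eq_univ_of_card_lt (by rw [Nat.card_eq_fintype_card]; omega))
  have hq2 := hq.two_le
  obtain ⟨s, hs⟩ : ∃ s, s ∈ y.support := by
    apply Finset.card_pos.1
    omega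
  obtain ⟨b0, hb0⟩ := hnt.nonempty
  obtain ⟨g, hg⟩ := MulAction.exists_smul_eq G b0 s
  have hB' : MulAction.IsBlock G (g • B) := hB.translate g
  have hcardB' : (g • B).ncard = B.ncard := Set.ncard_smul_set g B
  have hsB' : s ∈ g • B := ⟨b0, hb0, hg⟩
  have hord : orderOf y = q := by rw [hcyc.orderOf, hcard]
  by_cases hfix : (⟨y, hy⟩ : G) • (g • B) = g • B
  · have hpow : ∀ i : ℕ, ((⟨y, hy⟩ : G) ^ i) • (g • B) = g • B := by
      intro i
      induction i with
      | zero => rw [pow_zero, one_smul]
      | succ i ih => rw [pow_succ, mul_smul, hfix, ih]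
    have hsub : (y.support : Set α) ⊆ g • B := by
      intro t ht
      obtain ⟨i, hi⟩ := hcyc.exists_pow_eq (Equiv.Perm.mem_support.1 hs)
        (Equiv.Perm.mem_support.1 ht)
      rw [← hpow i]
      exact ⟨s, hsB', hi⟩
    have h3 : q ≤ (g • B).ncard := by
      rw [← hcard, ← Set.ncard_coe_finset]
      exact Set.ncard_le_ncard hsub (Set.toFinite _)
    omega
  · set σ : G := ⟨y, hy⟩ with hσ
    have hordσ : orderOf σ = q := by
      rw [← hord, ← Subgroup.orderOf_coe σ]
    have hne : ∀ d : ℕ, 0 < d → d < q → (σ ^ d) • (g • B) ≠ g • B := by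
      intro d hd0 hdq heq
      apply hfix
      have hcop : Nat.Coprime d q :=
        (Nat.coprime_comm.1 ((Nat.Prime.coprime_iff_not_dvd hq).2
          (fun h => absurd (Nat.le_of_dvd hd0 h) (by omega))))
      obtain ⟨e, -, he⟩ := Nat.exists_mul_mod_eq_one_of_coprime hcop (by omega : 1 < q)
      have hpow : ∀ i : ℕ, ((σ ^ d) ^ i) • (g • B) = g • B := by
        intro i
        induction i with
        | zero => rw [pow_zero, one_smul]
        | succ i ih => rw [pow_succ, mul_smul, heq, ih]
      have h1 : (σ ^ d) ^ e = σ := by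
        rw [← pow_mul, ← pow_mod_orderOf, hordσ, he, pow_one]
      rw [← h1]
      exact hpow e
    have hdisj : ∀ i ∈ Finset.range q, ∀ j ∈ Finset.range q, i ≠ j →
        Disjoint ((σ ^ i) • (g • B)).toFinset ((σ ^ j) • (g • B)).toFinset := by
      have key : ∀ i j : ℕ, i < j → j < q →
          Disjoint ((σ ^ i) • (g • B)) ((σ ^ j) • (g • B)) := by
        intro i j hij hjq
        rcases hB'.smul_eq_smul_or_disjoint (σ ^ i) (σ ^ j) with h | h
        · exfalso
          apply hne (j - i) (by omega) (by omega)
          have : σ ^ j = σ ^ i * σ ^ (j - i) := by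
            rw [← pow_add]; congr 1; omega
          rw [this, mul_smul] at h
          exact (smul_left_cancel _ h).symm
        · exact h
      intro i hi j hj hij
      rw [Finset.mem_range] at hi hj
      rw [Set.disjoint_toFinset]
      rcases lt_or_gt_of_ne hij with h | h
      · exact key i j h hj
      · exact (key j i h hi).symm
    have hcardU := Finset.card_biUnion hdisj
    have hcards : ∀ i ∈ Finset.range q, ((σ ^ i) • (g • B)).toFinset.card = B.ncard := by
      intro i _
      rw [← Set.ncard_eq_toFinset_card', Set.ncard_smul_set, hcardB']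
    rw [Finset.sum_congr rfl hcards, Finset.sum_const, Finset.card_range, smul_eq_mul] at hcardU
    have hle2 := Finset.card_le_univ ((Finset.range q).biUnion
      fun i => ((σ ^ i) • (g • B)).toFinset)
    rw [hcardU] at hle2
    nlinarith

end Cfsg.Agent.Helper9.AltGen
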