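import Mathlib
import Cfsg.Agent.Helper9.AltGen.Prim
import Cfsg.Agent.Lead.PermJordan2

set_option autoImplicit false

/-!
Two even permutations `x` of prime order `p` and `y` a cycle of prime length `q`, on less than `p + q`
points, with less than `2 q` points moved: the group they generate is primitive on the points it moves,
and it is the alternating group of these points as soon as it has a cycle of three points or of a
prime number of points with three points more moved.
-/

namespace Cfsg.Agent.Helper9.AltGen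

open Equiv Equiv.Perm

variable {α : Type*} [Fintype α] [DecidableEq α]

/-- the part of a group of permutations on a set of points. -/
def part (H : Subgroup (Perm α)) (Ω : Finset α) : Subgroup (Perm {a // a ∈ Ω}) :=
  H.comap (ofSubtype : Perm {a // a ∈ Ω} →* Perm α)

/-- the permutations of `H` move points of `Ω` only. -/
def SuppIn (H : Subgroup (Perm α)) (Ω : Finset α) : Prop :=
  H ≤ (ofSubtype : Perm {a // a ∈ Ω} →* Perm α).range

theorem suppIn_closure {S : Set (Perm α)} {Ω : Finset α} (h : ∀ s ∈ S, s.support ⊆ Ω) :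
    SuppIn (Subgroup.closure S) Ω := by
  unfold SuppIn
  rw [Subgroup.closure_le]
  intro s hs
  rw [SetLike.mem_coe, mem_range_ofSubtype_iff]
  intro a ha
  exact h s hs ha

omit [Fintype α] in
theorem map_part {H : Subgroup (Perm α)} {Ω : Finset α} (hH : SuppIn H Ω) :
    (part H Ω).map (ofSubtype : Perm {a // a ∈ Ω} →* Perm α) = H := by
  unfold part
  rw [Subgroup.map_comap_eq]
  exact inf_eq_right.2 hH

omit [Fintype α] in
theorem exists_of_mem {H : Subgroup (Perm α)} {Ω : Finset α} (hH : SuppIn H Ω) {h : Perm α}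
    (hh : h ∈ H) : ∃ k ∈ part H Ω, ofSubtype k = h := by
  obtain ⟨k, hk⟩ := hH hh
  refine ⟨k, ?_, hk⟩
  change ofSubtype k ∈ H
  rw [hk]
  exact hh

theorem iso_of_alt_le {H : Subgroup (Perm α)} {Ω : Finset α} (hH : SuppIn H Ω)
    (hA : H ≤ alternatingGroup α) (hK : alternatingGroup {a // a ∈ Ω} ≤ part H Ω) :
    Nonempty (H ≃* alternatingGroup (Fin Ω.card)) := by
  have hK' : part H Ω = alternatingGroup {a // a ∈ Ω} := by
    refine le_antisymm (fun k hk => ?_) hK
    have h1 : ofSubtype k ∈ alternatingGroup α := hA hk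
    rw [mem_alternatingGroup, sign_ofSubtype] at h1
    exact mem_alternatingGroup.2 h1
  have e1 : part H Ω ≃* (part H Ω).map (ofSubtype : Perm {a // a ∈ Ω} →* Perm α) :=
    (part H Ω).equivMapOfInjective _ ofSubtype_injective
  have e2 : ((part H Ω).map (ofSubtype : Perm {a // a ∈ Ω} →* Perm α) : Subgroup (Perm α)) ≃* H :=
    MulEquiv.subgroupCongr (map_part hH)
  have e3 : part H Ω ≃* alternatingGroup {a // a ∈ Ω} := MulEquiv.subgroupCongr hK'
  have e4 : alternatingGroup {a // a ∈ Ω} ≃* alternatingGroup (Fin Ω.card) :=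
    Equiv.altCongrHom (Fintype.equivFinOfCardEq (Fintype.card_coe Ω))
  exact ⟨e2.symm.trans (e1.symm.trans (e3.trans e4))⟩

omit [Fintype α] in
theorem pretransitive_part {H : Subgroup (Perm α)} {Ω : Finset α} (hH : SuppIn H Ω) {c : α}
    (hc : c ∈ Ω) (htr : ∀ a ∈ Ω, ∃ h ∈ H, h a = c) :
    MulAction.IsPretransitive (part H Ω) {a // a ∈ Ω} := by
  have key : ∀ a : {a // a ∈ Ω}, ∃ k : part H Ω, k • a = ⟨c, hc⟩ := by
    intro a
    obtain ⟨h, hh, hha⟩ := htr a.1 a.2
    obtain ⟨k, hk, hkh⟩ := exists_of_mem hH hh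
    refine ⟨⟨k, hk⟩, ?_⟩
    apply Subtype.ext
    change (k a : α) = c
    rw [← ofSubtype_apply_coe, hkh, hha]
  constructor
  intro a b
  obtain ⟨k1, hk1⟩ := key a
  obtain ⟨k2, hk2⟩ := key b
  exact ⟨k2⁻¹ * k1, by rw [mul_smul, hk1, ← hk2, inv_smul_smul]⟩

theorem exists_pow_mem_support {x y : Perm α} {p : ℕ} (hp : p.Prime) (hox : orderOf x = p)
    (hcard : Fintype.card α < p + y.support.card) {a : α} (ha : a ∈ x.support) :
    ∃ i : ℕ, (x ^ i) a ∈ y.support := by
  by_contra hno
  push Not at hno
  have key : ∀ i j : ℕ, i < j → j < p → (x ^ i) a ≠ (x ^ j) a := by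
    intro i j hij hjp he
    have hd : (x ^ (j - i)) a = a := by
      have : x ^ j = x ^ i * x ^ (j - i) := by rw [← pow_add]; congr 1; omega
      rw [this, Perm.mul_apply] at he
      exact ((x ^ i).injective he).symm
    have hcop : Nat.Coprime (j - i) p :=
      (Nat.coprime_comm.1 ((Nat.Prime.coprime_iff_not_dvd hp).2
        (fun h => absurd (Nat.le_of_dvd (by omega) h) (by omega))))
    obtain ⟨e, -, he1⟩ := Nat.exists_mul_mod_eq_one_of_coprime hcop hp.one_lt
    have h1 : (x ^ (j - i)) ^ e = x := by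
      rw [← pow_mul, ← pow_mod_orderOf, hox, he1, pow_one]
    have h2 : ((x ^ (j - i)) ^ e) a = a := pow_apply_eq_self_of_apply_eq_self hd e
    rw [h1] at h2
    exact (mem_support.1 ha) h2
  have hinj : Set.InjOn (fun i : ℕ => (x ^ i) a) (Finset.range p) := by
    intro i hi j hj he
    rw [Finset.coe_range, Set.mem_Iio] at hi hj
    by_contra hne
    rcases lt_or_gt_of_ne hne with h | h
    · exact key i j h hj he
    · exact key j i h hi he.symm
  have himg : (Finset.range p).image (fun i : ℕ => (x ^ i) a) ⊆ y.supportᶜ := by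
    intro b hb
    obtain ⟨i, -, rfl⟩ := Finset.mem_image.1 hb
    exact Finset.mem_compl.2 (hno i)
  have h3 := Finset.card_le_card himg
  rw [Finset.card_image_of_injOn hinj, Finset.card_range, Finset.card_compl] at h3
  have h4 := Finset.card_le_univ y.support
  omega

theorem trans_xy {x y : Perm α} {p : ℕ} (hp : p.Prime) (hox : orderOf x = p) (hyc : y.IsCycle)
    (hcard : Fintype.card α < p + y.support.card) :
    ∃ c ∈ x.support ∪ y.support, ∀ a ∈ x.support ∪ y.support,
      ∃ h ∈ Subgroup.closure ({x, y} : Set (Perm α)), h a = c := by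
  obtain ⟨c, hc, -⟩ := id hyc
  have hxm : x ∈ Subgroup.closure ({x, y} : Set (Perm α)) := Subgroup.subset_closure (by simp)
  have hym : y ∈ Subgroup.closure ({x, y} : Set (Perm α)) := Subgroup.subset_closure (by simp)
  have hy' : ∀ a ∈ y.support, ∃ h ∈ Subgroup.closure ({x, y} : Set (Perm α)), h a = c := by
    intro a ha
    obtain ⟨i, hi⟩ := hyc.exists_pow_eq (mem_support.1 ha) hc
    exact ⟨y ^ i, Subgroup.pow_mem _ hym i, hi⟩
  refine ⟨c, Finset.mem_union_right _ (mem_support.2 hc), fun a ha => ?_⟩
  rcases Finset.mem_union.1 ha with ha | ha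
  · obtain ⟨i, hi⟩ := exists_pow_mem_support hp hox hcard ha
    obtain ⟨h, hh, hha⟩ := hy' _ hi
    exact ⟨h * x ^ i, Subgroup.mul_mem _ hh (Subgroup.pow_mem _ hxm i), by
      rw [Perm.mul_apply, hha]⟩
  · exact hy' a ha

theorem exists_part_cycleType {H : Subgroup (Perm α)} {Ω : Finset α} (hH : SuppIn H Ω) {z : Perm α}
    (hz : z ∈ H) : ∃ k ∈ part H Ω, k.cycleType = z.cycleType := by
  obtain ⟨k, hk, rfl⟩ := exists_of_mem hH hz
  exact ⟨k, hk, cycleType_ofSubtype.symm⟩

theorem isCycle_of_cycleType_eq {β γ : Type*} [Fintype β] [DecidableEq β] [Fintype γ] [DecidableEq γ]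
    {k : Perm β} {z : Perm γ} (h : k.cycleType = z.cycleType) (hz : z.IsCycle) :
    k.IsCycle ∧ k.support.card = z.support.card := by
  constructor
  · rw [← card_cycleType_eq_one, h, card_cycleType_eq_one]
    exact hz
  · rw [← sum_cycleType, ← sum_cycleType, h]

/-- the conditions on the two permutations. -/
structure Pair (x y : Perm α) (p q : ℕ) : Prop where
  hp : p.Prime
  hq : q.Prime
  hxa : x ∈ alternatingGroup α
  hya : y ∈ alternatingGroup α
  hox : orderOf x = p
  hyc : y.IsCycle
  hys : y.support.card = q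
  hpq : Fintype.card α < p + q
  h2q : (x.support ∪ y.support).card < 2 * q

theorem Pair.suppIn {x y : Perm α} {p q : ℕ} (_ : Pair x y p q) :
    SuppIn (Subgroup.closure ({x, y} : Set (Perm α))) (x.support ∪ y.support) := by
  apply suppIn_closure
  intro s hs
  rcases hs with rfl | hs
  · exact Finset.subset_union_left
  · rw [Set.mem_singleton_iff] at hs
    subst hs
    exact Finset.subset_union_right

theorem Pair.le_alt {x y : Perm α} {p q : ℕ} (h : Pair x y p q) :
    Subgroup.closure ({x, y} : Set (Perm α)) ≤ alternatingGroup α := by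
  rw [Subgroup.closure_le]
  intro s hs
  rcases hs with rfl | hs
  · exact h.hxa
  · rw [Set.mem_singleton_iff] at hs
    subst hs
    exact h.hya

theorem Pair.preprimitive {x y : Perm α} {p q : ℕ} (h : Pair x y p q) :
    MulAction.IsPreprimitive (part (Subgroup.closure ({x, y} : Set (Perm α))) (x.support ∪ y.support))
      {a // a ∈ x.support ∪ y.support} := by
  obtain ⟨c, hc, htr⟩ := trans_xy h.hp h.hox h.hyc (by rw [h.hys]; exact h.hpq)
  have := pretransitive_part h.suppIn hc htr
  obtain ⟨k, hk, hkt⟩ := exists_part_cycleType h.suppIn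
    (Subgroup.subset_closure (by simp) : y ∈ Subgroup.closure ({x, y} : Set (Perm α)))
  obtain ⟨hkc, hks⟩ := isCycle_of_cycleType_eq hkt h.hyc
  exact preprimitive_of_prime_cycle _ h.hq hk hkc (hks.trans h.hys)
    (by rw [Fintype.card_coe]; exact h.h2q)

theorem Pair.card_ge {x y : Perm α} {p q : ℕ} (h : Pair x y p q) :
    q ≤ (x.support ∪ y.support).card := by
  rw [← h.hys]
  exact Finset.card_le_card Finset.subset_union_right

/-- the group is alternating on the points moved as soon as it has a cycle of a prime number `r` of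
points, with `r + 3` points moved at least. -/
theorem Pair.iso_of_cycle {x y : Perm α} {p q : ℕ} (h : Pair x y p q) {z : Perm α}
    (hz : z ∈ Subgroup.closure ({x, y} : Set (Perm α))) (hzc : z.IsCycle) {r : ℕ} (hr : r.Prime)
    (hzr : z.support.card = r) (hr3 : r + 3 ≤ (x.support ∪ y.support).card) :
    Nonempty (Subgroup.closure ({x, y} : Set (Perm α)) ≃*
      alternatingGroup (Fin (x.support ∪ y.support).card)) := by
  obtain ⟨k, hk, hkt⟩ := exists_part_cycleType h.suppIn hz
  obtain ⟨hkc, hks⟩ := isCycle_of_cycleType_eq hkt hzc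
  exact iso_of_alt_le h.suppIn h.le_alt
    (Lead.PJ.jordan_prime_cycle _ h.preprimitive hr (by rw [Fintype.card_coe]; exact hr3) hkc
      (hks.trans hzr) hk)

/-- the group is alternating on the points moved as soon as it has a cycle of three points. -/
theorem Pair.iso_of_three {x y : Perm α} {p q : ℕ} (h : Pair x y p q) {z : Perm α}
    (hz : z ∈ Subgroup.closure ({x, y} : Set (Perm α))) (hz3 : z.IsThreeCycle) :
    Nonempty (Subgroup.closure ({x, y} : Set (Perm α)) ≃*
      alternatingGroup (Fin (x.support ∪ y.support).card)) := by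
  obtain ⟨k, hk, hkt⟩ := exists_part_cycleType h.suppIn hz
  have hk3 : k.IsThreeCycle := by
    unfold IsThreeCycle at hz3 ⊢
    rw [hkt, hz3]
  exact iso_of_alt_le h.suppIn h.le_alt
    (alternatingGroup_le_of_isPreprimitive_of_isThreeCycle_mem h.preprimitive hk3 hk)

end Cfsg.Agent.Helper9.AltGen
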