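import Mathlib
import Cfsg.Agent.Helper9.AltGen.Gen
import Cfsg.Agent.Helper5.CarmichaelC

set_option autoImplicit false

/-!
On six points: a permutation of order 3 without fixed points and a cycle of five points generate a
group isomorphic to the alternating group of five or of six points.
-/

namespace Cfsg.Agent.Helper9.AltGen

open Equiv Equiv.Perm

/-! ### Carmichael's relations give a copy of the alternating group -/

section
variable {G : Type*} [Group G]

open Cfsg.Agent.Helper5.Carmichael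

theorem lift_rels_of_rel {x : ℕ → G} {m : ℕ} (hR : Rel x m) :
    ∀ r ∈ rels m, FreeGroup.lift (fun i : Fin m => x i.val) r = 1 := by
  intro r hr
  rcases hr with ((⟨i, hi, rfl⟩ | ⟨i, hi, rfl⟩) | ⟨i, j, hij, rfl⟩) | ⟨i, j, hij, rfl⟩
  · rw [map_pow, FreeGroup.lift_apply_of, hi]
    exact hR.h3
  · rw [map_pow, FreeGroup.lift_apply_of]
    exact hR.h2 i.val hi i.2
  · rw [map_pow, map_mul, FreeGroup.lift_apply_of, FreeGroup.lift_apply_of, hij]
    exact hR.hb i.val (by have := j.2; omega)
  · rw [map_pow, map_mul, FreeGroup.lift_apply_of, FreeGroup.lift_apply_of]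
    exact hR.hc i.val j.val hij j.2

theorem iso_of_rel_three {x : ℕ → G} (hR : Rel x 3) (hne : x 0 ≠ 1) :
    Nonempty (alternatingGroup (Fin 5) ≃* Hs x 3) := by
  obtain ⟨e⟩ := main 3 (by norm_num)
  let f0 : PresentedGroup (rels 3) →* G := PresentedGroup.toGroup (lift_rels_of_rel hR)
  have hf0 : ∀ i : Fin 3, f0 (PresentedGroup.of i) = x i.val := fun i =>
    PresentedGroup.toGroup.of (lift_rels_of_rel hR)
  have hrange : f0.range = Hs x 3 := by
    rw [MonoidHom.range_eq_map, ← PresentedGroup.closure_range_of (rels 3), MonoidHom.map_closure]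
    unfold Hs
    congr 1
    ext g
    constructor
    · rintro ⟨_, ⟨i, rfl⟩, rfl⟩
      exact ⟨i.val, i.2, (hf0 i).symm⟩
    · rintro ⟨i, hi, rfl⟩
      exact ⟨PresentedGroup.of ⟨i, hi⟩, ⟨⟨i, hi⟩, rfl⟩, hf0 ⟨i, hi⟩⟩
  let f : alternatingGroup (Fin 5) →* G := f0.comp e.symm.toMonoidHom
  have hfr : f.range = Hs x 3 := by
    rw [← hrange]
    ext g
    constructor
    · rintro ⟨a, rfl⟩
      exact ⟨e.symm a, rfl⟩
    · rintro ⟨b, rfl⟩
      exact ⟨e b, by simp [f]⟩
  have hsimple : IsSimpleGroup (alternatingGroup (Fin 5)) :=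
    alternatingGroup.isSimpleGroup (by simp)
  have hinj : Function.Injective f := by
    rw [← MonoidHom.ker_eq_bot_iff]
    rcases (MonoidHom.normal_ker f).eq_bot_or_eq_top with h | h
    · exact h
    · exfalso
      apply hne
      have h1 : e (PresentedGroup.of (⟨0, by norm_num⟩ : Fin 3)) ∈ f.ker := by rw [h]; trivial
      rw [MonoidHom.mem_ker] at h1
      have h2 : f (e (PresentedGroup.of (⟨0, by norm_num⟩ : Fin 3))) = x 0 := by
        simp only [f, MonoidHom.comp_apply, MulEquiv.coe_toMonoidHom, MulEquiv.symm_apply_apply]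
        exact hf0 ⟨0, by norm_num⟩
      rw [← h2, h1]
  exact ⟨(MonoidHom.ofInjective hinj).trans (MulEquiv.subgroupCongr hfr)⟩

end

/-! ### the table on six points -/

/-- the cycle of the first five of six points. -/
def y6 : Perm (Fin 6) := ⟨![1, 2, 3, 4, 0, 5], ![4, 0, 1, 2, 3, 5], by decide, by decide⟩

/-- one of three words is a cycle of three points. -/
def Good3 (x : Perm (Fin 6)) : Prop :=
  (x * y6 * x * y6 * x * y6⁻¹).support.card = 3 ∨ (x * y6).support.card = 3 ∨
    (x * y6⁻¹).support.card = 3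

instance (x : Perm (Fin 6)) : Decidable (Good3 x) := by unfold Good3; infer_instance

/-- Carmichael's relations on three permutations. -/
def CarmOK (s0 s1 s2 : Perm (Fin 6)) : Prop :=
  s0 ≠ 1 ∧ s0 ^ 3 = 1 ∧ s1 ^ 2 = 1 ∧ s2 ^ 2 = 1 ∧ (s0 * s1) ^ 3 = 1 ∧ (s1 * s2) ^ 3 = 1 ∧
    (s0 * s2) ^ 2 = 1

instance (s0 s1 s2 : Perm (Fin 6)) : Decidable (CarmOK s0 s1 s2) := by unfold CarmOK; infer_instance

/-- the three words of `x` and a power `Y` of the cycle. -/
def cs0 (x Y : Perm (Fin 6)) : Perm (Fin 6) := x * Y * Y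

/-- the three words of `x` and a power `Y` of the cycle. -/
def cs1 (x Y : Perm (Fin 6)) : Perm (Fin 6) := x * Y⁻¹ * x

/-- the three words of `x` and a power `Y` of the cycle. -/
def cs2 (x Y : Perm (Fin 6)) : Perm (Fin 6) := x⁻¹ * Y⁻¹ * Y⁻¹ * x * Y⁻¹

/-- the three words satisfy Carmichael's relations and give back `x` and the cycle. -/
def Good5At (x : Perm (Fin 6)) (j k : ℕ) : Prop :=
  CarmOK (cs0 x (y6 ^ j)) (cs1 x (y6 ^ j)) (cs2 x (y6 ^ j)) ∧
    x = cs0 x (y6 ^ j) * cs2 x (y6 ^ j) * cs1 x (y6 ^ j) * (cs0 x (y6 ^ j))⁻¹ ∧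
    y6 ^ j = cs1 x (y6 ^ j) * cs0 x (y6 ^ j) * cs2 x (y6 ^ j) * cs1 x (y6 ^ j) * cs0 x (y6 ^ j) ∧
    (y6 ^ j) ^ k = y6

instance (x : Perm (Fin 6)) (j k : ℕ) : Decidable (Good5At x j k) := by
  unfold Good5At; infer_instance

/-- for one of the powers of the cycle. -/
def Good5 (x : Perm (Fin 6)) : Prop :=
  Good5At x 1 1 ∨ Good5At x 2 3 ∨ Good5At x 3 2 ∨ Good5At x 4 4

instance (x : Perm (Fin 6)) : Decidable (Good5 x) := by unfold Good5; infer_instance

set_option maxRecDepth 100000 in
theorem six_table : ∀ x : Perm (Fin 6), x ^ 3 = 1 → (∀ i, x i ≠ i) → Good3 x ∨ Good5 x := by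
  decide +kernel

/-! ### the group of a good permutation -/

theorem y6_pow_five : y6 ^ 5 = 1 := by decide

theorem y6_ne_one : y6 ≠ 1 := by decide

theorem y6_orderOf : orderOf y6 = 5 := by
  have : Fact (Nat.Prime 5) := ⟨by norm_num⟩
  exact orderOf_eq_prime y6_pow_five y6_ne_one

theorem y6_isCycle : y6.IsCycle := by
  apply isCycle_of_prime_order'
  · rw [y6_orderOf]; norm_num
  · rw [y6_orderOf, Fintype.card_fin]; norm_num

theorem y6_support : y6.support.card = 5 := by
  rw [← y6_isCycle.orderOf, y6_orderOf]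

open Cfsg.Agent.Helper5.Carmichael in
theorem iso_of_good5At {x : Perm (Fin 6)} {j k : ℕ} (h : Good5At x j k) :
    Nonempty (Subgroup.closure ({x, y6} : Set (Perm (Fin 6))) ≃* alternatingGroup (Fin 5)) := by
  obtain ⟨⟨hne, h3, h21, h22, hb01, hb12, hc02⟩, hx, hY, hk⟩ := h
  set Y := y6 ^ j with hYdef
  set s0 := cs0 x Y with hs0
  set s1 := cs1 x Y with hs1
  set s2 := cs2 x Y with hs2
  let X : ℕ → Perm (Fin 6) := fun i => if i = 0 then s0 else if i = 1 then s1 else s2
  have hR : Rel X 3 := by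
    refine ⟨h3, ?_, ?_, ?_⟩
    · intro i h1 hi
      interval_cases i
      · exact h21
      · exact h22
    · intro i hi
      have : i = 0 ∨ i = 1 := by omega
      rcases this with rfl | rfl
      · exact hb01
      · exact hb12
    · intro i k' hik hk'
      have : i = 0 ∧ k' = 2 := by omega
      obtain ⟨rfl, rfl⟩ := this
      exact hc02
  obtain ⟨e⟩ := iso_of_rel_three hR hne
  have hHs : Hs X 3 = Subgroup.closure ({x, y6} : Set (Perm (Fin 6))) := by
    have hxm : x ∈ Subgroup.closure ({x, y6} : Set (Perm (Fin 6))) :=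
      Subgroup.subset_closure (by simp)
    have hym : y6 ∈ Subgroup.closure ({x, y6} : Set (Perm (Fin 6))) :=
      Subgroup.subset_closure (by simp)
    have hYm : Y ∈ Subgroup.closure ({x, y6} : Set (Perm (Fin 6))) := Subgroup.pow_mem _ hym j
    have hs0m : s0 ∈ Subgroup.closure ({x, y6} : Set (Perm (Fin 6))) :=
      Subgroup.mul_mem _ (Subgroup.mul_mem _ hxm hYm) hYm
    have hs1m : s1 ∈ Subgroup.closure ({x, y6} : Set (Perm (Fin 6))) :=
      Subgroup.mul_mem _ (Subgroup.mul_mem _ hxm (Subgroup.inv_mem _ hYm)) hxm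
    have hs2m : s2 ∈ Subgroup.closure ({x, y6} : Set (Perm (Fin 6))) :=
      Subgroup.mul_mem _ (Subgroup.mul_mem _ (Subgroup.mul_mem _ (Subgroup.mul_mem _
        (Subgroup.inv_mem _ hxm) (Subgroup.inv_mem _ hYm)) (Subgroup.inv_mem _ hYm)) hxm)
        (Subgroup.inv_mem _ hYm)
    apply le_antisymm
    · unfold Hs
      rw [Subgroup.closure_le]
      rintro g ⟨i, hi, rfl⟩
      have hi' : i < 3 := hi
      interval_cases i
      · exact hs0m
      · exact hs1m
      · exact hs2m
    · have m0 : s0 ∈ Hs X 3 := mem_Hs (x := X) (by norm_num : 0 < 3)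
      have m1 : s1 ∈ Hs X 3 := mem_Hs (x := X) (by norm_num : 1 < 3)
      have m2 : s2 ∈ Hs X 3 := mem_Hs (x := X) (by norm_num : 2 < 3)
      rw [Subgroup.closure_le]
      rintro g (rfl | hg)
      · rw [SetLike.mem_coe, hx]
        exact Subgroup.mul_mem _ (Subgroup.mul_mem _ (Subgroup.mul_mem _ m0 m2) m1)
          (Subgroup.inv_mem _ m0)
      · rw [Set.mem_singleton_iff] at hg
        subst hg
        rw [SetLike.mem_coe, ← hk, hY]
        exact Subgroup.pow_mem _ (Subgroup.mul_mem _ (Subgroup.mul_mem _ (Subgroup.mul_mem _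
          (Subgroup.mul_mem _ m1 m0) m2) m1) m0) k
  exact ⟨(MulEquiv.subgroupCongr hHs.symm).trans e.symm⟩

theorem iso_of_good5 {x : Perm (Fin 6)} (h : Good5 x) :
    Nonempty (Subgroup.closure ({x, y6} : Set (Perm (Fin 6))) ≃* alternatingGroup (Fin 5)) := by
  rcases h with h | h | h | h
  · exact iso_of_good5At h
  · exact iso_of_good5At h
  · exact iso_of_good5At h
  · exact iso_of_good5At h

theorem exists_three_of_good3 {x : Perm (Fin 6)} (h : Good3 x) :
    ∃ z ∈ Subgroup.closure ({x, y6} : Set (Perm (Fin 6))), z.IsThreeCycle := by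
  have hxm : x ∈ Subgroup.closure ({x, y6} : Set (Perm (Fin 6))) :=
    Subgroup.subset_closure (by simp)
  have hym : y6 ∈ Subgroup.closure ({x, y6} : Set (Perm (Fin 6))) :=
    Subgroup.subset_closure (by simp)
  rcases h with h | h | h
  · exact ⟨_, Subgroup.mul_mem _ (Subgroup.mul_mem _ (Subgroup.mul_mem _ (Subgroup.mul_mem _
      (Subgroup.mul_mem _ hxm hym) hxm) hym) hxm) (Subgroup.inv_mem _ hym),
      card_support_eq_three_iff.1 h⟩
  · exact ⟨_, Subgroup.mul_mem _ hxm hym, card_support_eq_three_iff.1 h⟩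
  · exact ⟨_, Subgroup.mul_mem _ hxm (Subgroup.inv_mem _ hym), card_support_eq_three_iff.1 h⟩

/-! ### the pair moved by a permutation of the points -/

section
variable {α : Type*} [Fintype α] [DecidableEq α]

theorem Pair.conj {x y : Perm α} {p q : ℕ} (h : Pair x y p q) (σ : Perm α) :
    Pair (σ * x * σ⁻¹) (σ * y * σ⁻¹) p q where
  hp := h.hp
  hq := h.hq
  hxa := by
    have := h.hxa
    rw [mem_alternatingGroup] at this ⊢
    rw [Perm.sign_mul, Perm.sign_mul, Perm.sign_inv, mul_right_comm, Int.units_mul_self, one_mul]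
    exact this
  hya := by
    have := h.hya
    rw [mem_alternatingGroup] at this ⊢
    rw [Perm.sign_mul, Perm.sign_mul, Perm.sign_inv, mul_right_comm, Int.units_mul_self, one_mul]
    exact this
  hox := by
    have := (MulAut.conj σ).orderOf_eq x
    rw [MulAut.conj_apply] at this
    rw [this]
    exact h.hox
  hyc := h.hyc.conj
  hys := by rw [card_support_conj]; exact h.hys
  hpq := h.hpq
  h2q := by
    rw [support_conj, support_conj, ← Finset.map_union, Finset.card_map]
    exact h.h2q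

omit [Fintype α] [DecidableEq α] in
theorem iso_conj (x y σ : Perm α) :
    Nonempty (Subgroup.closure ({x, y} : Set (Perm α)) ≃*
      Subgroup.closure ({σ * x * σ⁻¹, σ * y * σ⁻¹} : Set (Perm α))) := by
  have e1 := (Subgroup.closure ({x, y} : Set (Perm α))).equivMapOfInjective
    (MulAut.conj σ).toMonoidHom (MulAut.conj σ).injective
  have hmap : (Subgroup.closure ({x, y} : Set (Perm α))).map (MulAut.conj σ).toMonoidHom =
      Subgroup.closure ({σ * x * σ⁻¹, σ * y * σ⁻¹} : Set (Perm α)) := by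
    rw [MonoidHom.map_closure, Set.image_pair]
    rfl
  exact ⟨e1.trans (MulEquiv.subgroupCongr hmap)⟩

end

/-- the case of a permutation of order 3 that is not a cycle, on six points. -/
theorem six_special {x y : Perm (Fin 6)} (h : Pair x y 3 5) (hx : ¬ x.IsCycle) :
    ∃ d : ℕ, 5 ≤ d ∧
      Nonempty (Subgroup.closure ({x, y} : Set (Perm (Fin 6))) ≃* alternatingGroup (Fin d)) := by
  have hct : y.cycleType = y6.cycleType := by
    rw [h.hyc.cycleType, h.hys, y6_isCycle.cycleType, y6_support]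
  obtain ⟨σ, hσ⟩ := isConj_iff.1 (isConj_iff_cycleType_eq.2 hct)
  have h' := h.conj σ
  rw [hσ] at h'
  set x1 := σ * x * σ⁻¹ with hx1
  obtain ⟨e0⟩ := iso_conj x y σ
  rw [hσ, ← hx1] at e0
  -- `x1` has order 3 and no fixed points
  have hx13 : x1 ^ 3 = 1 := by rw [← h'.hox]; exact pow_orderOf_eq_one x1
  have hx1c : ¬ x1.IsCycle := by
    intro hc
    apply hx
    have := hc.conj (g := σ⁻¹)
    rw [hx1] at this
    simpa [mul_assoc] using this
  have hfix : ∀ i, x1 i ≠ i := by
    obtain ⟨n, hn⟩ := cycleType_prime_order (σ := x1) (by rw [h'.hox]; norm_num)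
    rw [h'.hox] at hn
    have hsum : x1.support.card = (n + 1) * 3 := by
      rw [← sum_cycleType, hn, Multiset.sum_replicate, smul_eq_mul]
    have hn1 : n ≠ 0 := by
      rintro rfl
      apply hx1c
      rw [← card_cycleType_eq_one, hn]
      simp
    have hle := Finset.card_le_univ x1.support
    rw [Fintype.card_fin] at hle
    have huniv : x1.support = Finset.univ := by
      apply Finset.eq_univ_of_card
      rw [Fintype.card_fin]
      have : 1 ≤ n := Nat.one_le_iff_ne_zero.2 hn1
      nlinarith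
    intro i
    have : i ∈ x1.support := by rw [huniv]; exact Finset.mem_univ i
    exact mem_support.1 this
  rcases six_table x1 hx13 hfix with hg | hg
  · obtain ⟨z, hz, hz3⟩ := exists_three_of_good3 hg
    obtain ⟨e⟩ := h'.iso_of_three hz hz3
    exact ⟨_, le_trans (by norm_num) h'.card_ge, ⟨e0.trans e⟩⟩
  · obtain ⟨e⟩ := iso_of_good5 hg
    exact ⟨5, le_refl 5, ⟨e0.trans e⟩⟩

end Cfsg.Agent.Helper9.AltGen
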