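import Mathlib
import Cfsg.Agent.Helper3.TwoPrimes

set_option autoImplicit false

/-!
Two primes `p < q` with `m < 2 p`, `p + 4 ≤ q` and `q ≤ m`, for `m ≥ 17`: for large `m` from three
primes between `n` and `2 n`, by the proof of Bertrand's postulate in Mathlib with two more factors.
-/

namespace Cfsg.Agent.Helper9.AltGen

open Real in
/-- the inequality of the proof of Bertrand's postulate with the factor `(2 x) ^ 2` more. -/
theorem real_main_inequality3 {x : ℝ} (x_large : (648 : ℝ) ≤ x) :
    x * ((2 * x) * (2 * x)) * (2 * x) ^ √(2 * x) * 4 ^ (2 * x / 3) ≤ 4 ^ x := by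
  let f : ℝ → ℝ := fun x =>
    log x + (log (2 * x) + log (2 * x)) + √(2 * x) * log (2 * x) - log 4 / 3 * x
  have hf' : ∀ x, 0 < x → 0 < x * ((2 * x) * (2 * x)) * (2 * x) ^ √(2 * x) / 4 ^ (x / 3) :=
    fun x h => div_pos (mul_pos (mul_pos h (mul_pos (mul_pos two_pos h) (mul_pos two_pos h)))
      (rpow_pos_of_pos (mul_pos two_pos h) _)) (rpow_pos_of_pos four_pos _)
  have hf : ∀ x, 0 < x →
      f x = log (x * ((2 * x) * (2 * x)) * (2 * x) ^ √(2 * x) / 4 ^ (x / 3)) := by
    intro x h5
    have h6 := mul_pos (zero_lt_two' ℝ) h5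
    have h7 := rpow_pos_of_pos h6 (√(2 * x))
    rw [log_div (mul_pos (mul_pos h5 (mul_pos h6 h6)) h7).ne' (rpow_pos_of_pos four_pos _).ne',
      log_mul (mul_pos h5 (mul_pos h6 h6)).ne' h7.ne', log_mul h5.ne' (mul_pos h6 h6).ne',
      log_mul h6.ne' h6.ne', log_rpow h6, log_rpow zero_lt_four, ← mul_div_right_comm, ← mul_div,
      mul_comm x]
  have h5 : 0 < x := lt_of_lt_of_le (by norm_num1) x_large
  rw [← div_le_one (rpow_pos_of_pos four_pos x), ← div_div_eq_mul_div, ← rpow_sub four_pos, ←
    mul_div 2 x, mul_div_left_comm, ← mul_one_sub, (by norm_num1 : (1 : ℝ) - 2 / 3 = 1 / 3),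
    mul_one_div, ← log_nonpos_iff (hf' x h5).le, ← hf x h5]
  have hlog2 : ConcaveOn ℝ (Set.Ioi 0.5) (fun x : ℝ => log (2 * x)) := by
    have := (strictConcaveOn_log_Ioi.concaveOn.comp_linearMap ((2 : ℝ) • LinearMap.id))
    refine this.subset ?_ (convex_Ioi 0.5)
    intro y hy
    simp only [Set.mem_Ioi, Set.mem_preimage, LinearMap.smul_apply,
      LinearMap.id_coe, id_eq, smul_eq_mul] at hy ⊢
    have : (0.5 : ℝ) = 1 / 2 := by norm_num
    rw [this] at hy
    linarith
  have h : ConcaveOn ℝ (Set.Ioi 0.5) f := by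
    apply ConcaveOn.sub
    · apply ConcaveOn.add
      · apply ConcaveOn.add
        · exact strictConcaveOn_log_Ioi.concaveOn.subset
            (Set.Ioi_subset_Ioi (by norm_num)) (convex_Ioi 0.5)
        · exact hlog2.add hlog2
      convert!
        ((strictConcaveOn_sqrt_mul_log_Ioi.concaveOn.comp_linearMap ((2 : ℝ) • LinearMap.id)))
        using 1
      ext x
      simp only [Set.mem_Ioi, Set.mem_preimage, LinearMap.smul_apply,
        LinearMap.id_coe, id_eq, smul_eq_mul]
      rw [← mul_lt_mul_iff_right₀ (two_pos)]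
      norm_num1
      rfl
    apply ConvexOn.smul
    · refine div_nonneg (log_nonneg (by norm_num1)) (by norm_num1)
    · exact convexOn_id (convex_Ioi (0.5 : ℝ))
  suffices ∃ x1 x2, 0.5 < x1 ∧ x1 < x2 ∧ x2 ≤ x ∧ 0 ≤ f x1 ∧ f x2 ≤ 0 by
    obtain ⟨x1, x2, h1, h2, h0, h3, h4⟩ := this
    exact (h.right_le_of_le_left'' h1 ((h1.trans h2).trans_le h0) h2 h0 (h4.trans h3)).trans h4
  refine ⟨18, 648, by norm_num1, by norm_num1, x_large, ?_, ?_⟩
  · have : √(2 * 18 : ℝ) = 6 := (sqrt_eq_iff_mul_self_eq_of_pos (by norm_num1)).mpr (by norm_num1)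
    rw [hf _ (by norm_num1), log_nonneg_iff (by positivity), this, one_le_div (by norm_num1)]
    norm_num1
  · have : √(2 * 648) = 36 :=
      (sqrt_eq_iff_mul_self_eq_of_pos (by norm_num1)).mpr (by norm_num1)
    rw [hf _ (by norm_num1), log_nonpos_iff (hf' _ (by norm_num1)).le, this,
        div_le_one (by positivity)]
    have e1 : (648 / 3 : ℝ) = ((216 : ℕ) : ℝ) := by norm_num
    have e2 : (36 : ℝ) = ((36 : ℕ) : ℝ) := by norm_num
    rw [e1, e2, rpow_natCast, rpow_natCast]
    norm_num

open Nat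

/-- the inequality on the natural numbers. -/
theorem main_inequality3 {n : ℕ} (n_large : 648 ≤ n) :
    n * ((2 * n) * (2 * n)) * (2 * n) ^ sqrt (2 * n) * 4 ^ (2 * n / 3) ≤ 4 ^ n := by
  rw [← @cast_le ℝ]
  simp only [cast_mul, cast_pow, ← Real.rpow_natCast, cast_ofNat]
  refine _root_.trans ?_ (real_main_inequality3 (by exact_mod_cast n_large))
  gcongr
  · have n2_pos : 0 < 2 * n := by positivity
    exact mod_cast n2_pos
  · exact_mod_cast Real.nat_sqrt_le_real_sqrt
  · norm_num1
  · exact cast_div_le.trans (by norm_cast)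

/-- the primes between `n` and `2 n`. -/
def midPrimes (n : ℕ) : Finset ℕ := (Finset.Ioc n (2 * n)).filter Nat.Prime

theorem mem_midPrimes {n p : ℕ} : p ∈ midPrimes n ↔ (n < p ∧ p ≤ 2 * n) ∧ p.Prime := by
  rw [midPrimes, Finset.mem_filter, Finset.mem_Ioc]

theorem centralBinom_le_midPrimes (n : ℕ) (n_large : 2 < n) :
    centralBinom n ≤
      (2 * n) ^ (midPrimes n).card * ((2 * n) ^ sqrt (2 * n) * 4 ^ (2 * n / 3)) := by
  have hsplit := Finset.prod_range_mul_prod_Ico (fun p => p ^ (centralBinom n).factorization p)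
    (show 2 * n / 3 + 1 ≤ 2 * n + 1 by omega)
  rw [← n.prod_pow_factorization_centralBinom, ← hsplit, mul_comm]
  apply Nat.mul_le_mul
  · have e : ∏ p ∈ Finset.Ico (2 * n / 3 + 1) (2 * n + 1), p ^ (centralBinom n).factorization p =
        ∏ p ∈ midPrimes n, p ^ (centralBinom n).factorization p := by
      symm
      apply Finset.prod_subset
      · intro p hp
        rw [mem_midPrimes] at hp
        rw [Finset.mem_Ico]
        omega
      · intro p hp hnp
        rw [Finset.mem_Ico] at hp
        by_cases hpp : p.Prime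
        · have hle : p ≤ n := by
            by_contra hh
            apply hnp
            rw [mem_midPrimes]
            exact ⟨⟨by omega, by omega⟩, hpp⟩
          rw [factorization_centralBinom_of_two_mul_self_lt_three_mul n_large hle (by omega),
            Nat.pow_zero]
        · rw [factorization_eq_zero_of_not_prime _ hpp, Nat.pow_zero]
    rw [e]
    calc ∏ p ∈ midPrimes n, p ^ (centralBinom n).factorization p
        ≤ ∏ _p ∈ midPrimes n, (2 * n) :=
          Finset.prod_le_prod' (fun p _ => pow_factorization_choose_le (by omega))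
      _ = (2 * n) ^ (midPrimes n).card := by rw [Finset.prod_const]
  · exact Cfsg.Agent.Helper3.TwoPrimes.prod_small_le n n_large

theorem three_le_card_midPrimes (n : ℕ) (hn : 648 ≤ n) : 3 ≤ (midPrimes n).card := by
  by_contra h
  have hcard : (midPrimes n).card ≤ 2 := by omega
  have h1 := Nat.four_pow_lt_mul_centralBinom n (by omega)
  have h2 := centralBinom_le_midPrimes n (by omega)
  have h3 : (2 * n) ^ (midPrimes n).card ≤ (2 * n) * (2 * n) := by
    calc (2 * n) ^ (midPrimes n).card ≤ (2 * n) ^ 2 := Nat.pow_le_pow_right (by omega) hcard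
      _ = (2 * n) * (2 * n) := sq _
  have h4 := main_inequality3 hn
  have h5 : n * centralBinom n ≤ 4 ^ n := by
    calc n * centralBinom n
        ≤ n * ((2 * n) ^ (midPrimes n).card * ((2 * n) ^ sqrt (2 * n) * 4 ^ (2 * n / 3))) :=
          Nat.mul_le_mul_left n h2
      _ ≤ n * ((2 * n) * (2 * n) * ((2 * n) ^ sqrt (2 * n) * 4 ^ (2 * n / 3))) :=
          Nat.mul_le_mul_left n (Nat.mul_le_mul_right _ h3)
      _ = n * ((2 * n) * (2 * n)) * (2 * n) ^ sqrt (2 * n) * 4 ^ (2 * n / 3) := by ring
      _ ≤ 4 ^ n := h4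
  omega

theorem odd_of_mem_midPrimes {n p : ℕ} (hn : 2 ≤ n) (hp : p ∈ midPrimes n) : p % 2 = 1 := by
  rw [mem_midPrimes] at hp
  rcases hp.2.eq_two_or_odd with h | h
  · omega
  · exact h

theorem exists_pq_large (n : ℕ) (hn : 648 ≤ n) :
    ∃ p q : ℕ, p.Prime ∧ q.Prime ∧ n < p ∧ p + 4 ≤ q ∧ q ≤ 2 * n := by
  have h3 := three_le_card_midPrimes n hn
  obtain ⟨a, ha, b, hb, c, hc, hab, hac, hbc⟩ := Finset.two_lt_card.1 (by omega : 2 < (midPrimes n).card)
  have oa := odd_of_mem_midPrimes (by omega) ha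
  have ob := odd_of_mem_midPrimes (by omega) hb
  have oc := odd_of_mem_midPrimes (by omega) hc
  rw [mem_midPrimes] at ha hb hc
  have hpmin : (min a (min b c)).Prime := by
    rcases min_choice a (min b c) with h | h
    · rw [h]; exact ha.2
    · rw [h]
      rcases min_choice b c with h' | h'
      · rw [h']; exact hb.2
      · rw [h']; exact hc.2
  have hpmax : (max a (max b c)).Prime := by
    rcases max_choice a (max b c) with h | h
    · rw [h]; exact ha.2
    · rw [h]
      rcases max_choice b c with h' | h'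
      · rw [h']; exact hb.2
      · rw [h']; exact hc.2
  refine ⟨min a (min b c), max a (max b c), hpmin, hpmax, ?_, ?_, ?_⟩
  · omega
  · omega
  · omega

/-- for `m ≥ 17` there are primes `p` and `q` with `m < 2 p`, `p + 4 ≤ q` and `q ≤ m`. -/
theorem exists_pq (m : ℕ) (hm : 17 ≤ m) :
    ∃ p q : ℕ, p.Prime ∧ q.Prime ∧ m < 2 * p ∧ p + 4 ≤ q ∧ q ≤ m := by
  by_cases hbig : 1296 ≤ m
  · obtain ⟨p, q, hp, hq, h1, h2, h3⟩ := exists_pq_large (m / 2) (by omega)
    exact ⟨p, q, hp, hq, by omega, h2, by omega⟩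
  rw [not_le] at hbig
  by_cases h1 : m < 23
  · exact ⟨13, 17, by norm_num, by norm_num, by omega, by omega, by omega⟩
  by_cases h2 : m < 31
  · exact ⟨17, 23, by norm_num, by norm_num, by omega, by omega, by omega⟩
  by_cases h3 : m < 43
  · exact ⟨23, 31, by norm_num, by norm_num, by omega, by omega, by omega⟩
  by_cases h4 : m < 61
  · exact ⟨31, 43, by norm_num, by norm_num, by omega, by omega, by omega⟩
  by_cases h5 : m < 83
  · exact ⟨43, 61, by norm_num, by norm_num, by omega, by omega, by omega⟩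
  by_cases h6 : m < 113
  · exact ⟨61, 83, by norm_num, by norm_num, by omega, by omega, by omega⟩
  by_cases h7 : m < 163
  · exact ⟨83, 113, by norm_num, by norm_num, by omega, by omega, by omega⟩
  by_cases h8 : m < 223
  · exact ⟨113, 163, by norm_num, by norm_num, by omega, by omega, by omega⟩
  by_cases h9 : m < 317
  · exact ⟨163, 223, by norm_num, by norm_num, by omega, by omega, by omega⟩
  by_cases h10 : m < 443
  · exact ⟨223, 317, by norm_num, by norm_num, by omega, by omega, by omega⟩
  by_cases h11 : m < 631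
  · exact ⟨317, 443, by norm_num, by norm_num, by omega, by omega, by omega⟩
  by_cases h12 : m < 883
  · exact ⟨443, 631, by norm_num, by norm_num, by omega, by omega, by omega⟩
  by_cases h13 : m < 1259
  · exact ⟨631, 883, by norm_num, by norm_num, by omega, by omega, by omega⟩
  · exact ⟨883, 1259, by norm_num, by norm_num, by omega, by omega, by omega⟩

end Cfsg.Agent.Helper9.AltGen
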