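import Mathlib
import Cfsg.Agent.Helper9.AltGen.Leaf

set_option autoImplicit false

/-!
A cycle of `q - 2` of `q` points is moved by an affine map and a power to one that fixes `0` and `1` and
maps `2` to `3`, and the group it generates with the rotation is moved with it.
-/

namespace Cfsg.Agent.Helper9.AltGen

open Equiv Equiv.Perm Cfsg.Agent.Helper9.T11

open scoped Fin.CommRing

/-- every cycle of `q - 2` points gives a cycle of a small prime number of points. -/
def TwinOK (q : ℕ) : Prop :=
  ∀ γ : Perm (Fin q), γ.IsCycle → γ.support.card + 2 = q → HasCyc q γ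

theorem hasCyc_of_conj {q : ℕ} {γ π : Perm (Fin q)} {t i : ℕ}
    (hπ : π * rot q ^ t * π⁻¹ = rot q) (h : HasCyc q (π * γ ^ i * π⁻¹)) : HasCyc q γ := by
  obtain ⟨τ, hτ, l, hl, hl3, hc, hs⟩ := h
  have hle : Subgroup.closure ({rot q, π * γ ^ i * π⁻¹} : Set (Perm (Fin q))) ≤
      (Subgroup.closure ({rot q, γ} : Set (Perm (Fin q)))).map (MulAut.conj π).toMonoidHom := by
    rw [Subgroup.closure_le]
    rintro s (rfl | hs)
    · refine ⟨rot q ^ t, Subgroup.pow_mem _ (Subgroup.subset_closure (by simp)) t, ?_⟩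
      rw [MulEquiv.coe_toMonoidHom, MulAut.conj_apply]
      exact hπ
    · rw [Set.mem_singleton_iff] at hs
      subst hs
      refine ⟨γ ^ i, Subgroup.pow_mem _ (Subgroup.subset_closure (by simp)) i, ?_⟩
      rw [MulEquiv.coe_toMonoidHom, MulAut.conj_apply]
  obtain ⟨τ0, hτ0, rfl⟩ := hle hτ
  rw [MulEquiv.coe_toMonoidHom, MulAut.conj_apply] at hc hs
  refine ⟨τ0, hτ0, l, hl, hl3, ?_, ?_⟩
  · have := hc.conj (g := π⁻¹)
    simpa [mul_assoc] using this
  · rw [← hs, card_support_conj]

theorem rot_apply' {q : ℕ} [NeZero q] (i : Fin q) : rot q i = i + 1 := by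
  unfold rot
  convert finRotate_apply i

theorem rot_pow_apply' {q : ℕ} [NeZero q] (t : ℕ) (i : Fin q) :
    (rot q ^ t) i = i + (t : Fin q) := by
  induction t generalizing i with
  | zero => simp
  | succ t ih =>
    rw [pow_succ, Perm.mul_apply, rot_apply', ih]
    push_cast
    ring

/-- the affine map `i ↦ u (i - a)`. -/
def affP {q : ℕ} [NeZero q] (u k a : Fin q) (h : k * u = 1) : Perm (Fin q) where
  toFun i := u * (i - a)
  invFun j := k * j + a
  left_inv i := by
    change k * (u * (i - a)) + a = i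
    linear_combination (i - a) * h
  right_inv j := by
    change u * (k * j + a - a) = j
    linear_combination j * h

theorem affP_apply {q : ℕ} [NeZero q] (u k a : Fin q) (h : k * u = 1) (i : Fin q) :
    affP u k a h i = u * (i - a) := rfl

theorem affP_symm_apply {q : ℕ} [NeZero q] (u k a : Fin q) (h : k * u = 1) (j : Fin q) :
    (affP u k a h)⁻¹ j = k * j + a := rfl

theorem affP_rot {q : ℕ} [NeZero q] (u k a : Fin q) (h : k * u = 1) :
    affP u k a h * rot q ^ k.val * (affP u k a h)⁻¹ = rot q := by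
  ext j
  rw [Perm.mul_apply, Perm.mul_apply, affP_symm_apply, rot_pow_apply', affP_apply, rot_apply',
    Fin.cast_val_eq_self]
  congr 1
  linear_combination (j + 1) * h

theorem twinOK_of_NF {q : ℕ} [NeZero q] (hq5 : 5 ≤ q)
    (hinv : ∀ k : Fin q, k ≠ 0 → ∃ u : Fin q, k * u = 1) (hp : (q - 2).Prime) (h : TwinNF q) :
    TwinOK q := by
  intro γ hc hs
  have hcompl : (γ.supportᶜ).card = 2 := by
    rw [Finset.card_compl, Fintype.card_fin]; omega
  obtain ⟨a, b, hab, hfix⟩ := Finset.card_eq_two.1 hcompl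
  have ha : γ a = a := by
    have : a ∈ γ.supportᶜ := by rw [hfix]; simp
    simpa using this
  have hb : γ b = b := by
    have : b ∈ γ.supportᶜ := by rw [hfix]; simp
    simpa using this
  have hk : b - a ≠ 0 := sub_ne_zero.2 (Ne.symm hab)
  obtain ⟨u, hu⟩ := hinv (b - a) hk
  set π := affP u (b - a) a hu with hπ
  have hπa : π a = 0 := by rw [hπ, affP_apply]; ring
  have hπb : π b = 1 := by rw [hπ, affP_apply, mul_comm]; exact hu
  set x1 := π * γ * π⁻¹ with hx1
  have hx1c : x1.IsCycle := hc.conj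
  have hx1s : x1.support.card = γ.support.card := card_support_conj
  have hx10 : x1 0 = 0 := by
    rw [← hπa, hx1, Perm.mul_apply, Perm.mul_apply, Perm.inv_def, Equiv.symm_apply_apply, ha]
  have hx11 : x1 1 = 1 := by
    rw [← hπb, hx1, Perm.mul_apply, Perm.mul_apply, Perm.inv_def, Equiv.symm_apply_apply, hb]
  have h01 : (0 : Fin q) ≠ 1 := by
    intro he
    have := congrArg Fin.val he
    rw [Fin.val_zero, Fin.val_one', Nat.mod_eq_of_lt (by omega)] at this
    omega
  have hmv : ∀ z : Fin q, z ≠ 0 → z ≠ 1 → x1 z ≠ z := by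
    intro z hz0 hz1 hz
    have hsub : ({0, 1, z} : Finset (Fin q)) ⊆ x1.supportᶜ := by
      intro w hw
      rw [Finset.mem_compl, Perm.notMem_support]
      simp only [Finset.mem_insert, Finset.mem_singleton] at hw
      rcases hw with rfl | rfl | rfl
      · exact hx10
      · exact hx11
      · exact hz
    have h3 := Finset.card_le_card hsub
    rw [Finset.card_compl, Fintype.card_fin, hx1s,
      Finset.card_insert_of_notMem (by simp [h01, Ne.symm hz0]),
      Finset.card_insert_of_notMem (by simp [Ne.symm hz1]), Finset.card_singleton] at h3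
    omega
  have hv0 : ((0 : Fin q) : ℕ) = 0 := Fin.val_zero q
  have hv1 : ((1 : Fin q) : ℕ) = 1 := by rw [Fin.val_one', Nat.mod_eq_of_lt (by omega)]
  have h2 : x1 ⟨2, by omega⟩ ≠ ⟨2, by omega⟩ :=
    hmv _ (fun he => by have := congrArg Fin.val he; rw [hv0] at this; simp at this)
      (fun he => by have := congrArg Fin.val he; rw [hv1] at this; simp at this)
  have h3 : x1 ⟨3, by omega⟩ ≠ ⟨3, by omega⟩ :=
    hmv _ (fun he => by have := congrArg Fin.val he; rw [hv0] at this; simp at this)
      (fun he => by have := congrArg Fin.val he; rw [hv1] at this; simp at this)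
  obtain ⟨i, hi⟩ := hx1c.exists_pow_eq h2 h3
  have hord : orderOf x1 = q - 2 := by rw [hx1c.orderOf, hx1s]; omega
  have hcop : Nat.Coprime i (orderOf x1) := by
    rw [hord, Nat.coprime_comm, Nat.Prime.coprime_iff_not_dvd hp]
    intro hd
    rw [← hord, orderOf_dvd_iff_pow_eq_one] at hd
    rw [hd, Perm.one_apply] at hi
    have := congrArg Fin.val hi
    simp at this
  have hx'c : (x1 ^ i).IsCycle := hx1c.pow_iff.2 hcop
  have hx's : (x1 ^ i).support = x1.support := support_pow_coprime hcop
  apply hasCyc_of_conj (t := (b - a).val) (i := i) (π := π) (affP_rot u (b - a) a hu)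
  rw [← conj_pow]
  apply h (x1 ^ i) _ _ _ hx'c (by rw [hx's, hx1s]; exact hs)
  · have e : (x1 ^ i) 0 = 0 := pow_apply_eq_self_of_apply_eq_self hx10 i
    have e0 : (0 : Fin q) = ⟨0, by omega⟩ := Fin.ext hv0
    unfold gv
    rw [dif_pos (by omega : 0 < q), ← e0, e, hv0]
  · have e : (x1 ^ i) 1 = 1 := pow_apply_eq_self_of_apply_eq_self hx11 i
    have e1 : (1 : Fin q) = ⟨1, by omega⟩ := Fin.ext hv1
    unfold gv
    rw [dif_pos (by omega : 1 < q), ← e1, e, hv1]
  · unfold gv
    rw [dif_pos (by omega : 2 < q), hi]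

end Cfsg.Agent.Helper9.AltGen
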