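import Mathlib
import Cfsg.Agent.Helper9.AltGen.Gen
import Cfsg.Agent.Helper9.AltGen.Twin

set_option autoImplicit false

/-!
When the `q` points of the cycle `y` are all the points moved, the points are numbered so that `y` is
the rotation, and a cycle of a small prime number of points comes back from `Fin q`.
-/

namespace Cfsg.Agent.Helper9.AltGen

open Equiv Equiv.Perm Cfsg.Agent.Helper9.T11

theorem cycleType_permCongr {α β : Type*} [Fintype α] [DecidableEq α] [Fintype β] [DecidableEq β]
    (e : α ≃ β) (g : Perm α) : (e.permCongr g).cycleType = g.cycleType := by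
  have h : e.permCongr g = g.extendDomain
      (e.trans (Equiv.subtypeUnivEquiv (p := fun _ : β => True) (fun _ => trivial)).symm) := by
    ext b
    rw [extendDomain_apply_subtype _ _ trivial]
    simp [Equiv.permCongr_apply]
  rw [h, cycleType_extendDomain]

variable {α : Type*} [Fintype α] [DecidableEq α]

theorem Pair.exists_cycle_of_twin {x y : Perm α} {p q : ℕ} (h : Pair x y p q) (hpq : p + 2 = q)
    (hT : TwinOK q) (hsub : x.support ⊆ y.support) :
    ∃ z ∈ Subgroup.closure ({x, y} : Set (Perm α)), z.IsCycle ∧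
      ∃ r : ℕ, r.Prime ∧ z.support.card = r ∧ r + 3 ≤ (x.support ∪ y.support).card := by
  have hΩ : (x.support ∪ y.support).card = q := by
    rw [Finset.union_eq_right.2 hsub]; exact h.hys
  have hH := h.suppIn
  have hxm : x ∈ Subgroup.closure ({x, y} : Set (Perm α)) := Subgroup.subset_closure (by simp)
  have hym : y ∈ Subgroup.closure ({x, y} : Set (Perm α)) := Subgroup.subset_closure (by simp)
  obtain ⟨x', hx'K, hx'⟩ := exists_of_mem hH hxm
  obtain ⟨y', hy'K, hy'⟩ := exists_of_mem hH hym
  have hq2 := h.hq.two_le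
  have hp2 := h.hp.two_le
  have hp3 : 3 ≤ p := by
    by_contra hlt
    have hp2' : p = 2 := by omega
    have hq4 : q = 4 := by omega
    have := h.hq
    rw [hq4] at this
    exact absurd this (by norm_num)
  -- `x` is a cycle of `p` points
  have hxc : x.IsCycle := by
    apply isCycle_of_prime_order
    · rw [h.hox]; exact h.hp
    · rw [h.hox]
      have := Finset.card_le_card hsub
      rw [h.hys] at this
      omega
  have hxs : x.support.card = p := by rw [← hxc.orderOf, h.hox]
  let e0 : {a // a ∈ x.support ∪ y.support} ≃ Fin q :=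
    Fintype.equivFinOfCardEq (by rw [Fintype.card_coe]; exact hΩ)
  have hct : (e0.permCongr y').cycleType = (finRotate q).cycleType := by
    rw [cycleType_permCongr, ← cycleType_ofSubtype, hy', h.hyc.cycleType, h.hys,
      cycleType_finRotate_of_le hq2]
  obtain ⟨π, hπ⟩ := isConj_iff.1 (isConj_iff_cycleType_eq.2 hct)
  let e : {a // a ∈ x.support ∪ y.support} ≃ Fin q := e0.trans π
  have hey : e.permCongr y' = rot q := by
    rw [rot, ← hπ]
    ext z
    simp [e, Equiv.permCongr_apply]
  have hγt : (e.permCongr x').cycleType = x.cycleType := by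
    rw [cycleType_permCongr, ← cycleType_ofSubtype, hx']
  obtain ⟨hγc, hγs⟩ := isCycle_of_cycleType_eq hγt hxc
  obtain ⟨τ, hτ, l, hl, hl3, hτc, hτs⟩ := hT (e.permCongr x') hγc (by rw [hγs, hxs]; exact hpq)
  have hle : Subgroup.closure ({rot q, e.permCongr x'} : Set (Perm (Fin q))) ≤
      (part (Subgroup.closure ({x, y} : Set (Perm α))) (x.support ∪ y.support)).map
        e.permCongrHom.toMonoidHom := by
    rw [Subgroup.closure_le]
    rintro s (rfl | hs)
    · exact ⟨y', hy'K, hey⟩
    · rw [Set.mem_singleton_iff] at hs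
      subst hs
      exact ⟨x', hx'K, rfl⟩
  obtain ⟨τ', hτ'K, hτ'⟩ := hle hτ
  have hτ'' : e.permCongr τ' = τ := hτ'
  have hzt : (ofSubtype τ' : Perm α).cycleType = τ.cycleType := by
    rw [cycleType_ofSubtype, ← hτ'', cycleType_permCongr]
  obtain ⟨hzc, hzs⟩ := isCycle_of_cycleType_eq hzt hτc
  exact ⟨ofSubtype τ', hτ'K, hzc, l, hl, hzs.trans hτs, by rw [hΩ]; exact hl3⟩

end Cfsg.Agent.Helper9.AltGen
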