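import Mathlib
import Cfsg.Agent.Helper9.AltGen.Trans
import Cfsg.Agent.Helper9.AltGen.ThreePrimes
import Cfsg.Agent.Helper9.AltGen.Tw.C13
import Cfsg.Agent.Helper9.AltGen.Six

set_option autoImplicit false

/-!
Two primes `p < q` with `m ≤ 2 p` and `q ≤ m` such that any two elements of orders `p` and `q` of the
alternating group of `m ≥ 5` points generate an alternating group.
-/

namespace Cfsg.Agent.Helper9.AltGen

open Equiv Equiv.Perm Cfsg.Agent.Helper9.T11

theorem twinOK7 : TwinOK 7 :=
  twinOK_of_NF (by norm_num) (by decide) (by norm_num)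
    (twinNF_of_enumC ps7_ok (by norm_num) (by norm_num) tw7)

theorem twinOK13 : TwinOK 13 :=
  twinOK_of_NF (by norm_num) (by decide) (by norm_num)
    (twinNF_of_enumC ps13_ok (by norm_num) (by norm_num) tw13)

section
variable {α : Type*} [Fintype α] [DecidableEq α]

theorem Pair.concl_of_cycle {x y : Perm α} {p q : ℕ} (h : Pair x y p q) (h5 : 5 ≤ q)
    (hx : x.IsCycle) (H : p = 3 ∨ p + 3 ≤ q ∨ (p + 2 = q ∧ TwinOK q)) :
    ∃ d : ℕ, 5 ≤ d ∧
      Nonempty (Subgroup.closure ({x, y} : Set (Perm α)) ≃* alternatingGroup (Fin d)) := by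
  refine ⟨(x.support ∪ y.support).card, le_trans h5 h.card_ge, ?_⟩
  have hxs : x.support.card = p := by rw [← hx.orderOf, h.hox]
  have hxm : x ∈ Subgroup.closure ({x, y} : Set (Perm α)) := Subgroup.subset_closure (by simp)
  rcases H with H | H | ⟨H, hT⟩
  · subst H
    exact h.iso_of_three hxm (card_support_eq_three_iff.1 hxs)
  · exact h.iso_of_cycle hxm hx h.hp hxs (le_trans H h.card_ge)
  · by_cases hd : p + 3 ≤ (x.support ∪ y.support).card
    · exact h.iso_of_cycle hxm hx h.hp hxs hd
    · have hge := h.card_ge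
      have hcard : (x.support ∪ y.support).card = q := by omega
      have hsub : x.support ⊆ y.support := by
        have e : y.support = x.support ∪ y.support :=
          Finset.eq_of_subset_of_card_le Finset.subset_union_right (by rw [hcard, h.hys])
        rw [e]
        exact Finset.subset_union_left
      obtain ⟨z, hz, hzc, r, hr, hzr, hr3⟩ := h.exists_cycle_of_twin H hT hsub
      exact h.iso_of_cycle hz hzc hr hzr hr3

theorem Pair.concl_of_not_cycle {x y : Perm α} {p q : ℕ} (h : Pair x y p q) (h5 : 5 ≤ q)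
    (hx : ¬ x.IsCycle) (hmp : Fintype.card α ≤ 2 * p) (hq3 : q + 3 ≤ Fintype.card α) :
    ∃ d : ℕ, 5 ≤ d ∧
      Nonempty (Subgroup.closure ({x, y} : Set (Perm α)) ≃* alternatingGroup (Fin d)) := by
  obtain ⟨n, hn⟩ := cycleType_prime_order (σ := x) (by rw [h.hox]; exact h.hp)
  rw [h.hox] at hn
  have hsum : x.support.card = (n + 1) * p := by
    rw [← sum_cycleType, hn, Multiset.sum_replicate, smul_eq_mul]
  have hn1 : n ≠ 0 := by
    rintro rfl
    apply hx
    rw [← card_cycleType_eq_one, hn]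
    simp
  have hle := Finset.card_le_univ x.support
  have hp2 := h.hp.two_le
  have huniv : x.support = Finset.univ := by
    apply Finset.eq_univ_of_card
    have : 1 ≤ n := Nat.one_le_iff_ne_zero.2 hn1
    nlinarith
  have hU : (x.support ∪ y.support).card = Fintype.card α := by
    rw [huniv, Finset.union_eq_left.2 (Finset.subset_univ _), Finset.card_univ]
  have hym : y ∈ Subgroup.closure ({x, y} : Set (Perm α)) := Subgroup.subset_closure (by simp)
  exact ⟨_, le_trans h5 h.card_ge, h.iso_of_cycle hym h.hyc h.hq h.hys (by rw [hU]; exact hq3)⟩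

end

theorem pair_of {m p q : ℕ} (hp : p.Prime) (hq : q.Prime) (hmp : m ≤ 2 * p) (hpq : p < q)
    (x y : alternatingGroup (Fin m)) (hox : orderOf x = p) (hoy : orderOf y = q) :
    Pair (x : Perm (Fin m)) (y : Perm (Fin m)) p q := by
  have hoy' : orderOf (y : Perm (Fin m)) = q := by rw [Subgroup.orderOf_coe]; exact hoy
  have hyc : (y : Perm (Fin m)).IsCycle := by
    apply isCycle_of_prime_order'
    · rw [hoy']; exact hq
    · rw [hoy', Fintype.card_fin]; omega
  exact
    { hp := hp
      hq := hq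
      hxa := x.2
      hya := y.2
      hox := by rw [Subgroup.orderOf_coe]; exact hox
      hyc := hyc
      hys := by rw [← hyc.orderOf, hoy']
      hpq := by rw [Fintype.card_fin]; omega
      h2q := lt_of_le_of_lt (Finset.card_le_univ _) (by rw [Fintype.card_fin]; omega) }

theorem iso_closure_coe {m d : ℕ} (x y : alternatingGroup (Fin m))
    (h : Nonempty (Subgroup.closure ({(x : Perm (Fin m)), (y : Perm (Fin m))} : Set (Perm (Fin m))) ≃*
      alternatingGroup (Fin d))) :
    Nonempty (Subgroup.closure ({x, y} : Set (alternatingGroup (Fin m))) ≃*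
      alternatingGroup (Fin d)) := by
  obtain ⟨e⟩ := h
  have e1 := (Subgroup.closure ({x, y} : Set (alternatingGroup (Fin m)))).equivMapOfInjective
    (alternatingGroup (Fin m)).subtype (Subgroup.subtype_injective _)
  have hmap : (Subgroup.closure ({x, y} : Set (alternatingGroup (Fin m)))).map
      (alternatingGroup (Fin m)).subtype =
      Subgroup.closure ({(x : Perm (Fin m)), (y : Perm (Fin m))} : Set (Perm (Fin m))) := by
    rw [MonoidHom.map_closure, Set.image_pair]
    rfl
  exact ⟨e1.trans ((MulEquiv.subgroupCongr hmap).trans e)⟩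

/-- the statement for the primes `p` and `q`, under the conditions that the cases need. -/
theorem case_pq {m p q : ℕ} (hp : p.Prime) (hq : q.Prime) (hmp : m ≤ 2 * p) (hpq : p < q)
    (hqm : q ≤ m) (h5 : 5 ≤ q) (H : p = 3 ∨ p + 3 ≤ q ∨ (p + 2 = q ∧ TwinOK q))
    (Hsq : m = 2 * p → q + 3 ≤ m ∨ (m = 6 ∧ p = 3 ∧ q = 5))
    (x y : alternatingGroup (Fin m)) (hox : orderOf x = p) (hoy : orderOf y = q) :
    ∃ d : ℕ, 5 ≤ d ∧ Nonempty (Subgroup.closure ({x, y} : Set (alternatingGroup (Fin m))) ≃*
      alternatingGroup (Fin d)) := by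
  have h := pair_of hp hq hmp hpq x y hox hoy
  suffices hs : ∃ d : ℕ, 5 ≤ d ∧ Nonempty (Subgroup.closure
      ({(x : Perm (Fin m)), (y : Perm (Fin m))} : Set (Perm (Fin m))) ≃*
        alternatingGroup (Fin d)) by
    obtain ⟨d, hd, he⟩ := hs
    exact ⟨d, hd, iso_closure_coe x y he⟩
  by_cases hx : (x : Perm (Fin m)).IsCycle
  · exact h.concl_of_cycle h5 hx H
  · have hm2 : m = 2 * p := by
      by_contra hne
      apply hx
      apply isCycle_of_prime_order'
      · rw [h.hox]; exact hp
      · rw [h.hox, Fintype.card_fin]; omega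
    rcases Hsq hm2 with hq3 | ⟨rfl, rfl, rfl⟩
    · exact h.concl_of_not_cycle h5 hx (by rw [Fintype.card_fin]; exact hmp)
        (by rw [Fintype.card_fin]; exact hq3)
    · exact six_special h hx

theorem main (m : ℕ) (hm : 5 ≤ m) :
    ∃ p q : ℕ, p.Prime ∧ q.Prime ∧ m ≤ 2 * p ∧ p < q ∧ q ≤ m ∧
      ∀ x y : alternatingGroup (Fin m), orderOf x = p → orderOf y = q →
        ∃ d : ℕ, 5 ≤ d ∧ Nonempty (Subgroup.closure ({x, y} : Set (alternatingGroup (Fin m))) ≃*
          alternatingGroup (Fin d)) := by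
  rcases Nat.lt_or_ge m 17 with hlt | hge
  · have h3 : Nat.Prime 3 := by norm_num
    have h5 : Nat.Prime 5 := by norm_num
    have h7 : Nat.Prime 7 := by norm_num
    have h11 : Nat.Prime 11 := by norm_num
    have h13 : Nat.Prime 13 := by norm_num
    have c35 : ∀ m, 5 ≤ m → m ≤ 6 → _ := fun m h1 h2 =>
      (⟨3, 5, h3, h5, by omega, by norm_num, by omega, fun x y hox hoy =>
        case_pq h3 h5 (by omega) (by norm_num) (by omega) (le_refl 5) (Or.inl rfl)
          (fun hm2 => Or.inr ⟨by omega, rfl, rfl⟩) x y hox hoy⟩ :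
        ∃ p q : ℕ, p.Prime ∧ q.Prime ∧ m ≤ 2 * p ∧ p < q ∧ q ≤ m ∧
          ∀ x y : alternatingGroup (Fin m), orderOf x = p → orderOf y = q →
            ∃ d : ℕ, 5 ≤ d ∧ Nonempty (Subgroup.closure ({x, y} : Set (alternatingGroup (Fin m))) ≃*
              alternatingGroup (Fin d)))
    have c57 : ∀ m, 7 ≤ m → m ≤ 10 → _ := fun m h1 h2 =>
      (⟨5, 7, h5, h7, by omega, by norm_num, by omega, fun x y hox hoy =>
        case_pq h5 h7 (by omega) (by norm_num) (by omega) (by norm_num)
          (Or.inr (Or.inr ⟨rfl, twinOK7⟩)) (fun hm2 => Or.inl (by omega)) x y hox hoy⟩ :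
        ∃ p q : ℕ, p.Prime ∧ q.Prime ∧ m ≤ 2 * p ∧ p < q ∧ q ≤ m ∧
          ∀ x y : alternatingGroup (Fin m), orderOf x = p → orderOf y = q →
            ∃ d : ℕ, 5 ≤ d ∧ Nonempty (Subgroup.closure ({x, y} : Set (alternatingGroup (Fin m))) ≃*
              alternatingGroup (Fin d)))
    have c711 : ∀ m, 11 ≤ m → m ≤ 14 → _ := fun m h1 h2 =>
      (⟨7, 11, h7, h11, by omega, by norm_num, by omega, fun x y hox hoy =>
        case_pq h7 h11 (by omega) (by norm_num) (by omega) (by norm_num)
          (Or.inr (Or.inl (by norm_num))) (fun hm2 => Or.inl (by omega)) x y hox hoy⟩ :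
        ∃ p q : ℕ, p.Prime ∧ q.Prime ∧ m ≤ 2 * p ∧ p < q ∧ q ≤ m ∧
          ∀ x y : alternatingGroup (Fin m), orderOf x = p → orderOf y = q →
            ∃ d : ℕ, 5 ≤ d ∧ Nonempty (Subgroup.closure ({x, y} : Set (alternatingGroup (Fin m))) ≃*
              alternatingGroup (Fin d)))
    have c1113 : ∀ m, 15 ≤ m → m ≤ 16 → _ := fun m h1 h2 =>
      (⟨11, 13, h11, h13, by omega, by norm_num, by omega, fun x y hox hoy =>
        case_pq h11 h13 (by omega) (by norm_num) (by omega) (by norm_num)
          (Or.inr (Or.inr ⟨rfl, twinOK13⟩)) (fun hm2 => Or.inl (by omega)) x y hox hoy⟩ :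
        ∃ p q : ℕ, p.Prime ∧ q.Prime ∧ m ≤ 2 * p ∧ p < q ∧ q ≤ m ∧
          ∀ x y : alternatingGroup (Fin m), orderOf x = p → orderOf y = q →
            ∃ d : ℕ, 5 ≤ d ∧ Nonempty (Subgroup.closure ({x, y} : Set (alternatingGroup (Fin m))) ≃*
              alternatingGroup (Fin d)))
    rcases Nat.lt_or_ge m 7 with h7' | h7'
    · exact c35 m hm (by omega)
    rcases Nat.lt_or_ge m 11 with h11' | h11'
    · exact c57 m h7' (by omega)
    rcases Nat.lt_or_ge m 15 with h15' | h15'
    · exact c711 m h11' (by omega)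
    · exact c1113 m h15' (by omega)
  · obtain ⟨p, q, hp, hq, hmp, hpq, hqm⟩ := exists_pq m hge
    refine ⟨p, q, hp, hq, by omega, by omega, hqm, fun x y hox hoy => ?_⟩
    exact case_pq hp hq (by omega) (by omega) hqm (by omega) (Or.inr (Or.inl (by omega)))
      (fun hm2 => by omega) x y hox hoy

end Cfsg.Agent.Helper9.AltGen
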